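import Mathlib
import Cfsg.Agent.Lib.IsometryConj.Symplectic
import Cfsg.Agent.Lib.Perm.Asch.Forms.OCongr
import Cfsg.Agent.Lib.Classical.QuadDisc

/-!
# Forms with a nilpotent skew endomorphism

For a non-degenerate `ε`-symmetric form `B` with a nilpotent endomorphism `C` skew for it, in odd
characteristic: the Jordan type and one bit for each part size `j` with `ε (-1)^(j-1) = 1` decide the pair up
to isometry.
-/

set_option autoImplicit false

open scoped Classical

namespace CfsgLib.Char.SpClass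

open Module
open scoped Matrix

variable {F : Type*} [Field F] {ε : F} {V W : Type*} [AddCommGroup V] [Module F V] [AddCommGroup W] [Module F W]

/-- A non-degenerate `ε`-symmetric form with a skew nilpotent endomorphism. -/
structure NilPair (ε : F) (V : Type*) [AddCommGroup V] [Module F V] where
  /-- the form -/
  B : LinearMap.BilinForm F V
  /-- the endomorphism -/
  C : Module.End F V
  flip : ∀ x y, B y x = ε * B x y
  sep : ∀ x, (∀ y, B x y = 0) → x = 0
  skew : ∀ x y, B (C x) y = -B x (C y)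
  nil : IsNilpotent C

/-- Isometry of pairs. -/
def NilPair.Iso (x : NilPair ε V) (y : NilPair ε W) : Prop :=
  ∃ φ : V ≃ₗ[F] W, (∀ u v, y.B (φ u) (φ v) = x.B u v) ∧ ∀ u, φ (x.C u) = y.C (φ u)

theorem NilPair.Iso.symm {x : NilPair ε V} {y : NilPair ε W} (h : x.Iso y) : y.Iso x := by
  obtain ⟨φ, h1, h2⟩ := h
  refine ⟨φ.symm, fun u v => ?_, fun u => φ.injective ?_⟩
  · rw [← h1, φ.apply_symm_apply, φ.apply_symm_apply]
  · rw [φ.apply_symm_apply, h2, φ.apply_symm_apply]

theorem NilPair.Iso.trans {U : Type*} [AddCommGroup U] [Module F U] {x : NilPair ε V} {y : NilPair ε W}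
    {z : NilPair ε U} (h : x.Iso y) (k : y.Iso z) : x.Iso z := by
  obtain ⟨φ, h1, h2⟩ := h
  obtain ⟨ψ, k1, k2⟩ := k
  exact ⟨φ.trans ψ, fun u v => by simp [k1, h1], fun u => by simp [h2, k2]⟩

/-- The ranks of the powers. -/
noncomputable def rnk (C : Module.End F V) (j : ℕ) : ℕ := finrank F (LinearMap.range (C ^ j))

/-- The number of Jordan blocks of size `j`. -/
noncomputable def blk (C : Module.End F V) (j : ℕ) : ℕ := rnk C (j - 1) + rnk C (j + 1) - 2 * rnk C j

/-- The part sizes that carry a discriminant. -/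
noncomputable def NilPair.good (x : NilPair ε V) : Finset ℕ :=
  (Finset.range (finrank F V + 1)).filter fun j => 1 ≤ j ∧ ε * (-1) ^ (j - 1) = 1 ∧ 0 < blk x.C j

theorem conj_pow {C : Module.End F V} {C' : Module.End F W} (φ : V ≃ₗ[F] W) (h : ∀ u, φ (C u) = C' (φ u)) :
    ∀ (j : ℕ) (u : V), φ ((C ^ j) u) = (C' ^ j) (φ u) := by
  intro j
  induction j with
  | zero => intro u; simp
  | succ j ih => intro u; rw [pow_succ, pow_succ, Module.End.mul_apply, Module.End.mul_apply, ih, h]

theorem rnk_zero (C : Module.End F V) : rnk C 0 = finrank F V := by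
  rw [rnk, pow_zero]
  exact (LinearEquiv.ofTop _ (LinearMap.range_eq_top.2 fun v => ⟨v, rfl⟩)).finrank_eq

theorem restrict_pow_coe (f : Module.End F V) {S : Submodule F V} (h : ∀ u ∈ S, f u ∈ S) :
    ∀ (j : ℕ) (u : S), (((f.restrict h) ^ j) u : V) = (f ^ j) (u : V) := by
  intro j
  induction j with
  | zero => intro u; simp
  | succ j ih => intro u; rw [pow_succ, pow_succ, Module.End.mul_apply, Module.End.mul_apply, ih]; rfl

theorem rnk_conj {C : Module.End F V} {C' : Module.End F W} (φ : V ≃ₗ[F] W) (h : ∀ u, φ (C u) = C' (φ u))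
    (j : ℕ) : rnk C j = rnk C' j := by
  have e : (LinearMap.range (C ^ j)).map φ.toLinearMap = LinearMap.range (C' ^ j) := by
    ext w
    constructor
    · rintro ⟨_, ⟨u, rfl⟩, rfl⟩; exact ⟨φ u, (conj_pow φ h j u).symm⟩
    · rintro ⟨u, rfl⟩
      exact ⟨_, ⟨φ.symm u, rfl⟩, (conj_pow φ h j _).trans (by rw [φ.apply_symm_apply])⟩
  rw [rnk, rnk, ← e, LinearEquiv.finrank_map_eq]

theorem rnk_prodMap [FiniteDimensional F V] [FiniteDimensional F W] (C : Module.End F V) (D : Module.End F W) (j : ℕ) :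
    rnk (LinearMap.prodMap C D : Module.End F (V × W)) j = rnk C j + rnk D j := by
  have hp : ∀ j : ℕ, (LinearMap.prodMap C D : Module.End F (V × W)) ^ j = LinearMap.prodMap (C ^ j) (D ^ j) := by
    intro j
    induction j with
    | zero => ext <;> simp
    | succ j ih => rw [pow_succ, ih, pow_succ, pow_succ]; ext <;> simp
  rw [rnk, hp, LinearMap.range_prodMap]
  exact (({ toFun := fun x => (⟨x.1.1, x.2.1⟩, ⟨x.1.2, x.2.2⟩)
            invFun := fun y => ⟨(y.1.1, y.2.1), y.1.2, y.2.2⟩
            map_add' := fun x y => rfl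
            map_smul' := fun t x => rfl
            left_inv := fun x => rfl
            right_inv := fun y => rfl } :
      ((LinearMap.range (C ^ j)).prod (LinearMap.range (D ^ j))) ≃ₗ[F]
        (LinearMap.range (C ^ j) × LinearMap.range (D ^ j)))).finrank_eq.trans Module.finrank_prod

/-- Ranks of powers are convex. -/
theorem rnk_convex [FiniteDimensional F V] (C : Module.End F V) (j : ℕ) :
    2 * rnk C (j + 1) ≤ rnk C j + rnk C (j + 2) := by
  have key : ∀ i, rnk C (i + 1) + finrank F ↥(LinearMap.ker C ⊓ LinearMap.range (C ^ i)) = rnk C i := by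
    intro i
    have h := LinearMap.finrank_range_add_finrank_ker (C.domRestrict (LinearMap.range (C ^ i)))
    have h1 : LinearMap.range (C.domRestrict (LinearMap.range (C ^ i))) = LinearMap.range (C ^ (i + 1)) := by
      rw [LinearMap.range_domRestrict, pow_succ', Module.End.mul_eq_comp, LinearMap.range_comp]
    have h2 : finrank F (LinearMap.ker (C.domRestrict (LinearMap.range (C ^ i)))) =
        finrank F ↥(LinearMap.ker C ⊓ LinearMap.range (C ^ i)) := by
      rw [← Submodule.finrank_map_subtype_eq (LinearMap.range (C ^ i)) (LinearMap.ker (C.domRestrict _))]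
      have e : (LinearMap.ker (C.domRestrict (LinearMap.range (C ^ i)))).map (LinearMap.range (C ^ i)).subtype =
          LinearMap.ker C ⊓ LinearMap.range (C ^ i) := by
        ext v
        simp [Submodule.mem_map, LinearMap.domRestrict_apply, and_comm]
      rw [e]
    rw [h1, h2] at h
    exact h
  have h1 := key j
  have h2 : rnk C (j + 2) + _ = rnk C (j + 1) := key (j + 1)
  have h3 : finrank F ↥(LinearMap.ker C ⊓ LinearMap.range (C ^ (j + 1))) ≤
      finrank F ↥(LinearMap.ker C ⊓ LinearMap.range (C ^ j)) := Submodule.finrank_mono (by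
    refine inf_le_inf_left _ ?_
    rintro _ ⟨v, rfl⟩
    exact ⟨C v, by rw [pow_succ, Module.End.mul_apply]⟩)
  omega

theorem flip_pow (x : NilPair ε V) (i : ℕ) : ∀ u v, x.B ((x.C ^ i) u) v = (-1) ^ i * x.B u ((x.C ^ i) v) := by
  induction i with
  | zero => intro u v; simp
  | succ i ih =>
    intro u v
    conv_lhs => rw [pow_succ', Module.End.mul_apply, x.skew, ih]
    conv_rhs => rw [pow_succ (x.C) i, Module.End.mul_apply]
    ring

theorem sym_pow (x : NilPair ε V) (i : ℕ) (u v : V) :
    x.B ((x.C ^ i) v) u = ε * (-1) ^ i * x.B ((x.C ^ i) u) v := by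
  rw [flip_pow x i v u, x.flip ((x.C ^ i) u) v]; ring

theorem pow_pow_apply (x : NilPair ε V) (i l : ℕ) (u v : V) :
    x.B ((x.C ^ i) u) ((x.C ^ l) v) = (-1) ^ l * x.B ((x.C ^ (i + l)) u) v := by
  have h : (x.C ^ (i + l)) u = (x.C ^ l) ((x.C ^ i) u) := by rw [add_comm, pow_add, Module.End.mul_apply]
  rw [h, flip_pow x l ((x.C ^ i) u) v, ← mul_assoc, ← mul_pow]
  simp

/-- The top of a pair: a space `F^m` carrying the form `B (C^k ·) ·`, orthogonal in the lower degrees. -/
structure Head (x : NilPair ε V) (k m : ℕ) where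
  /-- the embedding -/
  w : (Fin m → F) →ₗ[F] V
  /-- the induced form -/
  b : LinearMap.BilinForm F (Fin m → F)
  pair : ∀ i u v, x.B ((x.C ^ i) (w u)) (w v) = if i = k then b u v else 0
  sep : ∀ u, (∀ v, b u v = 0) → u = 0

theorem exists_head [FiniteDimensional F V] (h2 : (2 : F) ≠ 0) (hε : ε * ε = 1) (x : NilPair ε V) (k : ℕ)
    (hk : x.C ^ (k + 1) = 0) : Nonempty (Head x k (rnk x.C k)) := by
  obtain ⟨W₀, hW⟩ := Submodule.exists_isCompl (LinearMap.ker (x.C ^ k))
  have hdim : finrank F W₀ = rnk x.C k := by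
    have := LinearMap.finrank_range_add_finrank_ker (x.C ^ k)
    have := Submodule.finrank_add_eq_of_isCompl hW
    rw [rnk]; omega
  let ψ : (Fin (rnk x.C k) → F) ≃ₗ[F] W₀ := (Module.finBasisOfFinrankEq F W₀ hdim).equivFun.symm
  let w₀ : (Fin (rnk x.C k) → F) →ₗ[F] V := W₀.subtype ∘ₗ ψ.toLinearMap
  let b : LinearMap.BilinForm F (Fin (rnk x.C k) → F) := x.B.comp ((x.C ^ k) ∘ₗ w₀) w₀
  have hzero : ∀ i, k < i → x.C ^ i = 0 := fun i hi => pow_eq_zero_of_le hi hk
  have hb : ∀ u, (∀ v, b u v = 0) → u = 0 := by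
    intro u hu
    have h1 : (x.C ^ k) (w₀ u) = 0 := x.sep _ fun y => by
      obtain ⟨a, ha, c, hc, rfl⟩ := Submodule.mem_sup.1
        (show y ∈ LinearMap.ker (x.C ^ k) ⊔ W₀ by rw [hW.sup_eq_top]; exact Submodule.mem_top)
      rw [map_add, flip_pow, LinearMap.mem_ker.1 ha, map_zero, mul_zero, zero_add]
      have := hu (ψ.symm ⟨c, hc⟩)
      simpa [b, w₀] using this
    have h3 : w₀ u ∈ LinearMap.ker (x.C ^ k) ⊓ W₀ := ⟨h1, (ψ u).2⟩
    rw [hW.inf_eq_bot, Submodule.mem_bot] at h3
    exact ψ.injective (Subtype.ext (h3.trans (by simp)))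
  have hbsym : ∀ u v, b v u = ε * (-1) ^ k * b u v := fun u v => sym_pow x k _ _
  let toD : (Fin (rnk x.C k) → F) ≃ₗ[F] Module.Dual F (Fin (rnk x.C k) → F) :=
    LinearEquiv.ofBijective b ⟨(injective_iff_map_eq_zero _).2 fun u hu => hb u fun v => by rw [hu]; rfl,
      (LinearMap.injective_iff_surjective_of_finrank_eq_finrank Subspace.dual_finrank_eq.symm).1
        ((injective_iff_map_eq_zero _).2 fun u hu => hb u fun v => by rw [hu]; rfl)⟩
  suffices key : ∀ t ≤ k, ∃ w : (Fin (rnk x.C k) → F) →ₗ[F] V, ∀ i, k - t ≤ i → ∀ u v,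
      x.B ((x.C ^ i) (w u)) (w v) = if i = k then b u v else 0 by
    obtain ⟨w, hw⟩ := key k le_rfl
    exact ⟨⟨w, b, fun i => hw i (by omega), hb⟩⟩
  intro t
  induction t with
  | zero =>
    intro _
    refine ⟨w₀, fun i hi u v => ?_⟩
    split_ifs with h
    · subst h; rfl
    · rw [hzero i (by omega)]; simp
  | succ t ih =>
    intro ht
    obtain ⟨w, hw⟩ := ih (by omega)
    let β : LinearMap.BilinForm F (Fin (rnk x.C k) → F) := x.B.comp ((x.C ^ (k - (t + 1))) ∘ₗ w) w
    let T : (Fin (rnk x.C k) → F) →ₗ[F] (Fin (rnk x.C k) → F) := toD.symm.toLinearMap ∘ₗ ((-(1 / 2 : F)) • β)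
    have hT : ∀ u v, b (T u) v = -(1 / 2 : F) * β u v := fun u v => by
      have h := LinearMap.congr_fun (toD.apply_symm_apply (((-(1 / 2 : F)) • β) u)) v
      exact h.trans (by simp)
    refine ⟨w + ((x.C ^ (t + 1)) ∘ₗ w) ∘ₗ T, fun i hi u v => ?_⟩
    simp only [LinearMap.add_apply, LinearMap.comp_apply, map_add, pow_pow_apply,
      ← Module.End.mul_apply, ← pow_add]
    by_cases hik : i = k - (t + 1)
    · subst hik
      rw [if_neg (by omega), show k - (t + 1) + (t + 1) = k by omega, hw k (by omega), hw k (by omega),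
        hzero (k + (t + 1)) (by omega), if_pos rfl, if_pos rfl]
      have h3 : b u (T v) = ε * (-1) ^ k * (-(1 / 2 : F) * β v u) := by
        rw [← hT v u]; exact hbsym _ _
      have h4 : β v u = ε * (-1) ^ (k - (t + 1)) * β u v := sym_pow x _ _ _
      have hs : ((-1 : F) ^ (t + 1)) * ((-1) ^ k * (-1) ^ (k - (t + 1))) = 1 := by
        rw [← pow_add, ← pow_add, show t + 1 + (k + (k - (t + 1))) = 2 * k by omega, pow_mul]; simp
      rw [hT, h3, h4]
      simp only [LinearMap.zero_apply, map_zero, mul_zero, add_zero]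
      show β u v + -(1 / 2 : F) * β u v + _ = 0
      field_simp
      linear_combination (-(β u v) * ε * ε) * hs + (-(β u v)) * hε
    · have h1 : k - t ≤ i := by omega
      have h2' : k < i + (t + 1) := by omega
      rw [hw i h1, hzero (i + (t + 1)) h2', hzero (i + (t + 1) + (t + 1)) (by omega)]
      simp

namespace Head

variable {x : NilPair ε V} {k m : ℕ} (H : Head x k m)

theorem flip_b (u v : Fin m → F) : H.b v u = ε * (-1) ^ k * H.b u v := by
  have h := sym_pow x k (H.w u) (H.w v)
  rwa [H.pair, H.pair, if_pos rfl, if_pos rfl] at h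

/-- The free part spanned by the top. -/
noncomputable def L : (Fin (k + 1) → Fin m → F) →ₗ[F] V :=
  ∑ i : Fin (k + 1), ((x.C ^ (i : ℕ)) ∘ₗ H.w) ∘ₗ LinearMap.proj i

theorem L_apply (f : Fin (k + 1) → Fin m → F) : H.L f = ∑ i : Fin (k + 1), (x.C ^ (i : ℕ)) (H.w (f i)) := by simp [L]

theorem form_L (f g : Fin (k + 1) → Fin m → F) :
    x.B (H.L f) (H.L g) = ∑ i : Fin (k + 1), ∑ l : Fin (k + 1), if (i : ℕ) + l = k then (-1) ^ (l : ℕ) * H.b (f i) (g l) else 0 := by
  simp only [L_apply, map_sum, LinearMap.sum_apply]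
  rw [Finset.sum_comm]
  refine Finset.sum_congr rfl fun i _ => Finset.sum_congr rfl fun l _ => ?_
  rw [pow_pow_apply, H.pair]
  split_ifs <;> simp

theorem form_L_eq_zero {f : Fin (k + 1) → Fin m → F} (h : ∀ g, x.B (H.L f) (H.L g) = 0) : f = 0 := by
  funext i
  refine H.sep _ fun v => ?_
  let l : Fin (k + 1) := ⟨k - i, by omega⟩
  have h1 := h (Pi.single l v)
  rw [form_L, Finset.sum_eq_single i, Finset.sum_eq_single l] at h1
  · rw [if_pos (by simp only [l]; omega), Pi.single_eq_same] at h1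
    exact (mul_eq_zero.1 h1).resolve_left (pow_ne_zero _ (neg_ne_zero.2 one_ne_zero))
  · intro a _ ha
    rw [Pi.single_eq_of_ne ha]; simp
  · exact fun h => absurd (Finset.mem_univ _) h
  · intro a _ ha
    refine Finset.sum_eq_zero fun c _ => ?_
    rcases eq_or_ne c l with rfl | hc
    · rw [if_neg]
      intro he; exact ha (Fin.ext (by simp only [l] at he; omega))
    · rw [Pi.single_eq_of_ne hc]; simp
  · exact fun h => absurd (Finset.mem_univ _) h

theorem L_injective : Function.Injective H.L :=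
  (injective_iff_map_eq_zero _).2 fun f hf => H.form_L_eq_zero fun g => by rw [hf]; simp

theorem C_L (hk : x.C ^ (k + 1) = 0) (f : Fin (k + 1) → Fin m → F) :
    x.C (H.L f) = H.L (Fin.cons 0 (Fin.init f)) := by
  rw [Head.L_apply, Head.L_apply, map_sum, Fin.sum_univ_castSucc, Fin.sum_univ_succ]
  simp only [← Module.End.mul_apply, ← pow_succ', Fin.val_last, Fin.val_castSucc, Fin.val_succ, hk,
    Fin.cons_zero, Fin.cons_succ, map_zero, LinearMap.zero_apply, add_zero, zero_add]
  rfl

theorem range_invariant (hk : x.C ^ (k + 1) = 0) : ∀ u ∈ LinearMap.range H.L, x.C u ∈ LinearMap.range H.L := by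
  rintro _ ⟨f, rfl⟩
  exact ⟨_, (H.C_L hk f).symm⟩

theorem orth_invariant (hk : x.C ^ (k + 1) = 0) :
    ∀ u ∈ x.B.orthogonal (LinearMap.range H.L), x.C u ∈ x.B.orthogonal (LinearMap.range H.L) := by
  intro u hu z hz
  have := hu _ (H.range_invariant hk z hz)
  change x.B (x.C z) u = 0 at this
  show x.B z (x.C u) = 0
  rw [x.skew] at this
  exact neg_eq_zero.1 this

end Head

theorem isRefl (x : NilPair ε V) : x.B.IsRefl := fun u v h => by rw [x.flip, h, mul_zero]

theorem Head.isCompl [FiniteDimensional F V] {x : NilPair ε V} {k m : ℕ} (H : Head x k m) :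
    IsCompl (LinearMap.range H.L) (x.B.orthogonal (LinearMap.range H.L)) := by
  refine LinearMap.BilinForm.isCompl_orthogonal_of_restrict_nondegenerate (isRefl x) ?_
  refine (LinearMap.IsRefl.nondegenerate_iff_separatingLeft (B := x.B.restrict (LinearMap.range H.L))
    (fun u v h => isRefl x _ _ h)).2 ?_
  rintro ⟨_, f, rfl⟩ h
  refine Subtype.ext ?_
  show H.L f = 0
  rw [H.form_L_eq_zero fun g => h ⟨H.L g, g, rfl⟩, map_zero]

/-- The part orthogonal to the top. -/
noncomputable def Head.rest [FiniteDimensional F V] {x : NilPair ε V} {k m : ℕ} (H : Head x k m)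
    (hk : x.C ^ (k + 1) = 0) : NilPair ε ↥(x.B.orthogonal (LinearMap.range H.L)) where
  B := x.B.restrict _
  C := x.C.restrict (H.orth_invariant hk)
  flip u v := x.flip u v
  sep u hu := by
    refine Subtype.ext (x.sep u fun y => ?_)
    obtain ⟨a, ha, c, hc, rfl⟩ := Submodule.mem_sup.1
      (show y ∈ LinearMap.range H.L ⊔ x.B.orthogonal (LinearMap.range H.L) by
        rw [H.isCompl.sup_eq_top]; exact Submodule.mem_top)
    rw [map_add, isRefl x _ _ (u.2 a ha), zero_add]
    exact hu ⟨c, hc⟩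
  skew u v := x.skew u v
  nil := ⟨k + 1, LinearMap.ext fun u => Subtype.ext (by
    rw [Module.End.pow_restrict, LinearMap.restrict_coe_apply, hk]; rfl)⟩

/-- The endomorphism on the free part. -/
noncomputable def Head.topC {x : NilPair ε V} {k m : ℕ} (H : Head x k m) (hk : x.C ^ (k + 1) = 0) :
    Module.End F ↥(LinearMap.range H.L) := x.C.restrict (H.range_invariant hk)

theorem Head.rnk_eq [FiniteDimensional F V] {x : NilPair ε V} {k m : ℕ} (H : Head x k m)
    (hk : x.C ^ (k + 1) = 0) (j : ℕ) : rnk x.C j = rnk (H.topC hk) j + rnk (H.rest hk).C j := by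
  rw [← rnk_prodMap]
  refine (rnk_conj (Submodule.prodEquivOfIsCompl _ _ H.isCompl) (fun u => ?_) j).symm
  simp [Head.rest, Head.topC]

theorem top_equiv {x : NilPair ε V} {y : NilPair ε W} {k m : ℕ} (H : Head x k m) (H' : Head y k m)
    (hkx : x.C ^ (k + 1) = 0) (hky : y.C ^ (k + 1) = 0) (ψ : (Fin m → F) ≃ₗ[F] (Fin m → F))
    (hψ : ∀ u v, H'.b (ψ u) (ψ v) = H.b u v) :
    ∃ Φ : LinearMap.range H.L ≃ₗ[F] LinearMap.range H'.L,
      (∀ u v, y.B (Φ u : W) (Φ v : W) = x.B (u : V) (v : V)) ∧ ∀ u, Φ (H.topC hkx u) = H'.topC hky (Φ u) := by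
  let eL := LinearEquiv.ofInjective H.L H.L_injective
  let eL' := LinearEquiv.ofInjective H'.L H'.L_injective
  let P : (Fin (k + 1) → Fin m → F) ≃ₗ[F] (Fin (k + 1) → Fin m → F) := LinearEquiv.piCongrRight fun _ => ψ
  refine ⟨eL.symm.trans (P.trans eL'), fun u v => ?_, fun u => ?_⟩
  · obtain ⟨f, rfl⟩ := eL.surjective u
    obtain ⟨g, rfl⟩ := eL.surjective v
    simp only [LinearEquiv.trans_apply, LinearEquiv.symm_apply_apply]
    show y.B (H'.L _) (H'.L _) = x.B (H.L f) (H.L g)
    rw [H'.form_L, H.form_L]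
    simp [P, hψ]
  · obtain ⟨f, rfl⟩ := eL.surjective u
    have h1 : H.topC hkx (eL f) = eL (Fin.cons 0 (Fin.init f)) := Subtype.ext (H.C_L hkx f)
    rw [h1]
    simp only [LinearEquiv.trans_apply, LinearEquiv.symm_apply_apply]
    refine Subtype.ext ?_
    show H'.L (P _) = y.C (H'.L (P f))
    rw [H'.C_L hky]
    refine congrArg _ (funext fun i => Fin.cases ?_ (fun i => ?_) i) <;> simp [P, Fin.init]

theorem iso_of_parts [FiniteDimensional F V] [FiniteDimensional F W] {x : NilPair ε V} {y : NilPair ε W}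
    {k m : ℕ} (H : Head x k m) (H' : Head y k m) (hkx : x.C ^ (k + 1) = 0) (hky : y.C ^ (k + 1) = 0)
    (Φ : LinearMap.range H.L ≃ₗ[F] LinearMap.range H'.L)
    (hΦ : ∀ u v, y.B (Φ u : W) (Φ v : W) = x.B (u : V) (v : V))
    (hΦC : ∀ u, Φ (H.topC hkx u) = H'.topC hky (Φ u))
    (hr : (H.rest hkx).Iso (H'.rest hky)) : x.Iso y := by
  obtain ⟨φ, h1, h2⟩ := hr
  let ex := Submodule.prodEquivOfIsCompl _ _ H.isCompl
  let ey := Submodule.prodEquivOfIsCompl _ _ H'.isCompl
  refine ⟨ex.symm.trans ((Φ.prodCongr φ).trans ey), fun u v => ?_, fun u => ?_⟩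
  · obtain ⟨⟨a, c⟩, rfl⟩ := ex.surjective u
    obtain ⟨⟨a', c'⟩, rfl⟩ := ex.surjective v
    simp only [LinearEquiv.trans_apply, LinearEquiv.symm_apply_apply]
    simp only [ex, ey, LinearEquiv.prodCongr_apply, Submodule.coe_prodEquivOfIsCompl', map_add, LinearMap.add_apply]
    have o1 : ∀ (p : LinearMap.range H'.L) (q : ↥(y.B.orthogonal (LinearMap.range H'.L))),
        y.B (p : W) q = 0 ∧ y.B (q : W) p = 0 := fun p q => ⟨q.2 p p.2, isRefl y _ _ (q.2 p p.2)⟩
    have o2 : ∀ (p : LinearMap.range H.L) (q : ↥(x.B.orthogonal (LinearMap.range H.L))),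
        x.B (p : V) q = 0 ∧ x.B (q : V) p = 0 := fun p q => ⟨q.2 p p.2, isRefl x _ _ (q.2 p p.2)⟩
    rw [(o1 _ _).1, (o1 _ _).2, (o2 _ _).1, (o2 _ _).2, hΦ,
      show y.B (φ c : W) (φ c' : W) = x.B (c : V) c' from h1 c c']
  · obtain ⟨⟨a, c⟩, rfl⟩ := ex.surjective u
    have e : x.C (ex (a, c)) = ex (H.topC hkx a, (H.rest hkx).C c) := by
      simp [ex, Head.topC, Head.rest]
    rw [e]
    simp only [LinearEquiv.trans_apply, LinearEquiv.symm_apply_apply]
    simp only [LinearEquiv.prodCongr_apply, hΦC, h2]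
    simp [ey, Head.topC, Head.rest]

/-- Transport along a linear equivalence. -/
noncomputable def NilPair.pull (x : NilPair ε V) (φ : W ≃ₗ[F] V) : NilPair ε W where
  B := x.B.comp φ.toLinearMap φ.toLinearMap
  C := (φ.symm.toLinearMap ∘ₗ x.C) ∘ₗ φ.toLinearMap
  flip u v := x.flip _ _
  sep u hu := φ.injective (by
    rw [map_zero]
    exact x.sep _ fun y => by simpa using hu (φ.symm y))
  skew u v := by simpa using x.skew (φ u) (φ v)
  nil := by
    obtain ⟨N, hN⟩ := x.nil
    refine ⟨N, LinearMap.ext fun u => φ.injective ?_⟩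
    rw [conj_pow φ (C' := x.C) (fun u => by simp) N u, hN]
    simp

theorem NilPair.pull_iso (x : NilPair ε V) (φ : W ≃ₗ[F] V) : (x.pull φ).Iso x :=
  ⟨φ, fun _ _ => rfl, fun u => by simp [NilPair.pull]⟩

/-- Two non-degenerate forms of the same symmetry with discriminants in the same square class are isometric. -/
theorem exists_form_equiv [Fintype F] (h2 : (2 : F) ≠ 0) {m : ℕ} (s : F) (hs : s = 1 ∨ s = -1)
    (b b' : LinearMap.BilinForm F (Fin m → F)) (hb : ∀ u v, b v u = s * b u v) (hb' : ∀ u v, b' v u = s * b' u v)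
    (hn : ∀ u, (∀ v, b u v = 0) → u = 0) (hn' : ∀ u, (∀ v, b' u v = 0) → u = 0)
    (hd : s = 1 → (IsSquare (LinearMap.BilinForm.toMatrix' b).det ↔ IsSquare (LinearMap.BilinForm.toMatrix' b').det)) :
    ∃ ψ : (Fin m → F) ≃ₗ[F] (Fin m → F), ∀ u v, b' (ψ u) (ψ v) = b u v := by
  have refl : ∀ c : LinearMap.BilinForm F (Fin m → F), (∀ u v, c v u = s * c u v) → c.IsRefl :=
    fun c hc u v h => by rw [hc, h, mul_zero]
  have nd : b.Nondegenerate := (LinearMap.IsRefl.nondegenerate_iff_separatingLeft (refl b hb)).2 hn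
  have nd' : b'.Nondegenerate := (LinearMap.IsRefl.nondegenerate_iff_separatingLeft (refl b' hb')).2 hn'
  rcases Nat.eq_zero_or_pos m with rfl | hm
  · exact ⟨LinearEquiv.refl F _, fun u v => by
      rw [Subsingleton.elim u 0]; simp only [map_zero, LinearMap.zero_apply]⟩
  haveI : Nonempty (Fin m) := ⟨⟨0, hm⟩⟩
  rcases hs with rfl | rfl
  · set A := LinearMap.BilinForm.toMatrix' b with hA
    set A' := LinearMap.BilinForm.toMatrix' b' with hA'
    have hAT : Aᵀ = A := by
      ext i j; simp [hA, hb (Pi.single j 1) (Pi.single i 1)]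
    have hAT' : A'ᵀ = A' := by
      ext i j; simp [hA', hb' (Pi.single j 1) (Pi.single i 1)]
    have hdA : A.det ≠ 0 := LinearMap.BilinForm.nondegenerate_iff_det_ne_zero (Pi.basisFun F (Fin m)) |>.1 nd
    have hdA' : A'.det ≠ 0 := LinearMap.BilinForm.nondegenerate_iff_det_ne_zero (Pi.basisFun F (Fin m)) |>.1 nd'
    have hsq : IsSquare (A'.det * A.det) := by
      by_cases h : IsSquare A.det
      · exact ((hd rfl).1 h).mul h
      · exact CfsgLib.Classical.isSquare_mul_of_not h2 (fun h' => h ((hd rfl).2 h')) h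
    obtain ⟨P, hP⟩ := CfsgLib.Perm.Asch.exists_congr_symm h2 hAT' hAT hdA' hdA hsq
    refine ⟨Matrix.toLinearEquiv' (P : Matrix (Fin m) (Fin m) F) P.invertible, fun u v => ?_⟩
    have h1 := Matrix.toBilin'_apply' A' ((P : Matrix (Fin m) (Fin m) F).mulVec u) ((P : Matrix (Fin m) (Fin m) F).mulVec v)
    rw [hA', Matrix.toBilin'_toMatrix'] at h1
    have h3 := Matrix.toBilin'_apply' A u v
    rw [hA, Matrix.toBilin'_toMatrix'] at h3
    show b' ((P : Matrix (Fin m) (Fin m) F).mulVec u) ((P : Matrix (Fin m) (Fin m) F).mulVec v) = _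
    rw [h1, h3, ← hA', ← hA, ← hP, ← Matrix.mulVec_mulVec, ← Matrix.mulVec_mulVec,
      Matrix.dotProduct_mulVec u (P : Matrix (Fin m) (Fin m) F)ᵀ, Matrix.vecMul_transpose]
  · have alt : ∀ c : LinearMap.BilinForm F (Fin m → F), (∀ u v, c v u = -1 * c u v) → c.IsAlt :=
      fun c hc u => by
        have h := hc u u
        have : (2 : F) * c u u = 0 := by linear_combination h
        exact (mul_eq_zero.1 this).resolve_left h2
    obtain ⟨φ, hφ⟩ := IsometryConj.exists_alt_iso b' b (alt b' hb') (alt b hb) nd' nd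
    exact ⟨φ, hφ⟩

variable (ε)

/-- Jordan type and a bit for each good part size decide a pair. -/
theorem exists_code [Fintype F] (h2 : (2 : F) ≠ 0) (hε : ε = 1 ∨ ε = -1) : ∀ d : ℕ,
    ∃ code : NilPair ε (Fin d → F) → Finset ℕ, (∀ x, code x ⊆ x.good) ∧
      ∀ x y, (∀ j, rnk x.C j = rnk y.C j) → code x = code y → x.Iso y := by
  intro d
  induction d using Nat.strong_induction_on with
  | _ d ih =>
  rcases Nat.eq_zero_or_pos d with rfl | hd
  · exact ⟨fun _ => ∅, fun x => Finset.empty_subset _, fun x y _ _ =>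
      ⟨LinearEquiv.refl F _, fun u v => by rw [Subsingleton.elim u 0]; simp only [map_zero, LinearMap.zero_apply], fun u => Subsingleton.elim _ _⟩⟩
  have hεε : ε * ε = 1 := by rcases hε with rfl | rfl <;> simp
  have hex : ∀ x : NilPair ε (Fin d → F), ∃ k, x.C ^ (k + 1) = 0 := fun x => by
    obtain ⟨N, hN⟩ := x.nil
    exact ⟨N, pow_eq_zero_of_le (Nat.le_succ N) hN⟩
  let K := fun x => Nat.find (hex x)
  have hK : ∀ x, x.C ^ (K x + 1) = 0 := fun x => Nat.find_spec (hex x)
  have hm : ∀ x, 0 < rnk x.C (K x) := fun x => by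
    refine Nat.pos_of_ne_zero fun h0 => ?_
    rw [rnk, Submodule.finrank_eq_zero, LinearMap.range_eq_bot] at h0
    rcases Nat.eq_zero_or_pos (K x) with hk | hk
    · rw [hk, pow_zero] at h0
      haveI : Nonempty (Fin d) := ⟨⟨0, hd⟩⟩
      exact one_ne_zero (congrFun (LinearMap.congr_fun h0 1) (Classical.arbitrary _))
    · obtain ⟨k', hk'⟩ : ∃ k', K x = k' + 1 := ⟨K x - 1, by omega⟩
      exact Nat.find_min (hex x) (show k' < K x by omega) (hk' ▸ h0)
  let H := fun x : NilPair ε (Fin d → F) => Classical.choice (exists_head h2 hεε x (K x) (hK x))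
  let O := fun x : NilPair ε (Fin d → F) => x.B.orthogonal (LinearMap.range (H x).L)
  have hlt : ∀ x, finrank F (O x) < d := fun x => by
    have h1 := Submodule.finrank_add_eq_of_isCompl (H x).isCompl
    rw [LinearMap.finrank_range_of_inj (H x).L_injective, Module.finrank_fin_fun] at h1
    simp only [Module.finrank_pi_fintype, Module.finrank_self, Finset.sum_const, Finset.card_univ,
      Fintype.card_fin, smul_eq_mul, mul_one] at h1
    have h3 : 0 < (K x + 1) * rnk x.C (K x) := Nat.mul_pos (Nat.succ_pos _) (hm x)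
    show finrank F (x.B.orthogonal (LinearMap.range (H x).L)) < d
    omega
  choose code' hsub' hiso' using fun d' : {d' // d' < d} => ih d'.1 d'.2
  let ψ := fun x => ((Module.finBasis F (O x)).equivFun).symm
  let R := fun x => ((H x).rest (hK x)).pull (ψ x)
  let bit := fun x : NilPair ε (Fin d → F) =>
    if ε * (-1) ^ (K x) = 1 ∧ ¬ IsSquare (LinearMap.BilinForm.toMatrix' (H x).b).det then ({K x + 1} : Finset ℕ) else ∅
  have hR : ∀ x j, rnk (R x).C j = rnk ((H x).rest (hK x)).C j := fun x j => by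
    obtain ⟨φ, -, hφ⟩ := ((H x).rest (hK x)).pull_iso (ψ x)
    exact rnk_conj φ hφ j
  have hnot : ∀ x, ∀ j ∈ code' ⟨_, hlt x⟩ (R x), j ≠ K x + 1 := fun x j hj he => by
    have h := (Finset.mem_filter.1 (hsub' ⟨_, hlt x⟩ (R x) hj)).2.2.2
    subst he
    have h0 : ∀ i, K x ≤ i → rnk (R x).C i = 0 := fun i hi => by
      have h1 := (H x).rnk_eq (hK x) i
      rw [hR]
      rcases hi.lt_or_eq with hi | hi
      · have : rnk x.C i = 0 := by rw [rnk, pow_eq_zero_of_le hi (hK x)]; simp
        omega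
      · subst hi
        have h2' : rnk x.C (K x) ≤ rnk ((H x).topC (hK x)) (K x) := by
          have hinj : Function.Injective ((((H x).topC (hK x)) ^ (K x)).comp
              ((LinearEquiv.ofInjective (H x).L (H x).L_injective).toLinearMap.comp
                (LinearMap.single F (fun _ : Fin (K x + 1) => Fin (rnk x.C (K x)) → F) 0))) := by
            refine (injective_iff_map_eq_zero _).2 fun u hu => (H x).sep u fun v => ?_
            have h5 := congrArg Subtype.val hu
            simp only [LinearMap.comp_apply, Head.topC, restrict_pow_coe,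
              LinearEquiv.coe_coe, LinearEquiv.ofInjective_apply, ZeroMemClass.coe_zero] at h5
            have h6 : (H x).L (LinearMap.single F (fun _ : Fin (K x + 1) => Fin (rnk x.C (K x)) → F) 0 u) =
                (H x).w u := by
              rw [Head.L_apply, Finset.sum_eq_single (0 : Fin (K x + 1))]
              · simp
              · intro i _ hi; simp [hi]
              · simp
            rw [h6] at h5
            have h7 := (H x).pair (K x) u v
            rw [if_pos rfl, h5] at h7
            simpa using h7.symm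
          have h8 := LinearMap.finrank_range_of_inj hinj
          rw [Module.finrank_fin_fun] at h8
          exact h8.ge.trans (Submodule.finrank_mono (by rintro _ ⟨u, rfl⟩; exact ⟨_, rfl⟩))
        omega
    have a1 := h0 (K x) le_rfl
    have a2 := h0 (K x + 2) (by omega)
    simp only [blk, Nat.add_sub_cancel] at h
    rw [show K x + 1 + 1 = K x + 2 by omega] at h
    omega
  refine ⟨fun x => bit x ∪ code' ⟨_, hlt x⟩ (R x), fun x => Finset.union_subset ?_ ?_, fun x y hr hc => ?_⟩
  · intro j hj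
    simp only [bit] at hj
    split_ifs at hj with hc
    · rw [Finset.mem_singleton] at hj
      subst hj
      refine Finset.mem_filter.2 ⟨Finset.mem_range.2 ?_, Nat.le_add_left 1 _, hc.1, ?_⟩
      · have h1 := Submodule.finrank_add_eq_of_isCompl (H x).isCompl
        rw [LinearMap.finrank_range_of_inj (H x).L_injective, Module.finrank_fin_fun] at h1
        simp only [Module.finrank_pi_fintype, Module.finrank_self, Finset.sum_const, Finset.card_univ,
          Fintype.card_fin, smul_eq_mul, mul_one] at h1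
        have h3 : (K x + 1) * 1 ≤ (K x + 1) * rnk x.C (K x) := Nat.mul_le_mul_left _ (hm x)
        rw [Module.finrank_fin_fun]
        omega
      · have h0 : rnk x.C (K x + 1) = 0 := by rw [rnk, hK]; simp
        simp only [blk, Nat.add_sub_cancel, h0]
        have := hm x
        omega
    · simp at hj
  · intro j hj
    obtain ⟨h1, h2', h3, h4⟩ := Finset.mem_filter.1 (hsub' ⟨_, hlt x⟩ (R x) hj)
    refine Finset.mem_filter.2 ⟨Finset.mem_range.2 ?_, h2', h3, ?_⟩
    · rw [Finset.mem_range, Module.finrank_fin_fun] at h1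
      simp only [] at h1
      have := hlt x
      rw [Module.finrank_fin_fun]
      omega
    · obtain ⟨i, rfl⟩ : ∃ i, j = i + 1 := ⟨j - 1, by omega⟩
      simp only [blk, Nat.add_sub_cancel, hR] at h4 ⊢
      have a0 := (H x).rnk_eq (hK x) i
      have a1 := (H x).rnk_eq (hK x) (i + 1)
      have a2 := (H x).rnk_eq (hK x) (i + 1 + 1)
      have a3 := rnk_convex ((H x).topC (hK x)) i
      rw [show i + 2 = i + 1 + 1 by omega] at a3
      omega
  · have hKeq : K x = K y := by
      refine Nat.find_congr' fun {i} => ?_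
      have h := hr (i + 1)
      simp only [rnk] at h
      rw [← LinearMap.range_eq_bot, ← LinearMap.range_eq_bot (f := y.C ^ (i + 1)), ← Submodule.finrank_eq_zero (R := F),
        ← Submodule.finrank_eq_zero (R := F), h]
    have hmeq : rnk x.C (K x) = rnk y.C (K y) := by rw [← hKeq, hr]
    have key : ∀ (k k' m m' : ℕ) (Hx : Head x k m) (Hy : Head y k' m') (hx : x.C ^ (k + 1) = 0)
        (hy : y.C ^ (k' + 1) = 0), k = k' → m = m' →
        ((ε * (-1) ^ k = 1 → (IsSquare (LinearMap.BilinForm.toMatrix' Hx.b).det ↔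
          IsSquare (LinearMap.BilinForm.toMatrix' Hy.b).det))) →
        ((∀ j, rnk (Hx.rest hx).C j = rnk (Hy.rest hy).C j) → (Hx.rest hx).Iso (Hy.rest hy)) → x.Iso y := by
      intro k k' m m' Hx Hy hx hy hk hm' hdet hrest
      subst hk hm'
      have hs : ε * (-1) ^ k = 1 ∨ ε * (-1) ^ k = -1 := by
        rcases hε with rfl | rfl <;> rcases neg_one_pow_eq_or F k with h | h <;> simp [h]
      obtain ⟨ψ, hψ⟩ := exists_form_equiv h2 (ε * (-1) ^ k) hs Hx.b Hy.b Hx.flip_b Hy.flip_b Hx.sep Hy.sep hdet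
      obtain ⟨Φ, hΦ, hΦC⟩ := top_equiv Hx Hy hx hy ψ hψ
      refine iso_of_parts Hx Hy hx hy Φ hΦ hΦC (hrest fun j => ?_)
      have a1 := Hx.rnk_eq hx j
      have a2 := Hy.rnk_eq hy j
      have a3 := rnk_conj Φ hΦC j
      have := hr j
      omega
    have hbit : ∀ z, (K z + 1 ∈ bit z ∪ code' ⟨_, hlt z⟩ (R z)) ↔
        ε * (-1) ^ (K z) = 1 ∧ ¬ IsSquare (LinearMap.BilinForm.toMatrix' (H z).b).det := fun z => by
      simp only [Finset.mem_union, bit]
      constructor
      · rintro (h | h)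
        · split_ifs at h with hc
          · exact hc
          · simp at h
        · exact absurd rfl (hnot z _ h)
      · intro h; rw [if_pos h]; simp
    refine key _ _ _ _ (H x) (H y) (hK x) (hK y) hKeq hmeq (fun hsym => ?_) fun hrr => ?_
    · have h : (ε * (-1) ^ (K x) = 1 ∧ ¬ IsSquare (LinearMap.BilinForm.toMatrix' (H x).b).det) ↔
          (ε * (-1) ^ (K y) = 1 ∧ ¬ IsSquare (LinearMap.BilinForm.toMatrix' (H y).b).det) := by
        rw [← hbit x, ← hbit y, hKeq]
        exact Iff.of_eq (congrArg (K y + 1 ∈ ·) hc)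
      have hsym' : ε * (-1) ^ (K y) = 1 := by rw [← hKeq]; exact hsym
      tauto
    · have hcode : code' ⟨_, hlt x⟩ (R x) = code' ⟨_, hlt y⟩ (R y) := by
        have e : ∀ z, (bit z ∪ code' ⟨_, hlt z⟩ (R z)).erase (K z + 1) = code' ⟨_, hlt z⟩ (R z) := fun z => by
          ext j
          simp only [Finset.mem_erase, Finset.mem_union, bit]
          constructor
          · rintro ⟨hne, h | h⟩
            · split_ifs at h with hc
              · exact absurd (Finset.mem_singleton.1 h) hne
              · simp at h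
            · exact h
          · exact fun h => ⟨hnot z j h, Or.inr h⟩
        rw [← e x, ← e y, hKeq]
        exact congrArg (·.erase (K y + 1)) hc
      have hdim : finrank F (O x) = finrank F (O y) := by
        have a := hrr 0
        rwa [rnk_zero, rnk_zero] at a
      have gen : ∀ (a c : {d' // d' < d}) (p : NilPair ε (Fin a.1 → F)) (r : NilPair ε (Fin c.1 → F)), a = c →
          (∀ j, rnk p.C j = rnk r.C j) → code' a p = code' c r → p.Iso r := by
        intro a c p r hac h1 h3
        subst hac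
        exact hiso' a p r h1 h3
      exact ((((H x).rest (hK x)).pull_iso (ψ x)).symm.trans
        (gen ⟨_, hlt x⟩ ⟨_, hlt y⟩ (R x) (R y) (Subtype.ext hdim) (fun j => by rw [hR, hR, hrr]) hcode)).trans
        (((H y).rest (hK y)).pull_iso (ψ y))

end CfsgLib.Char.SpClass
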