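import Mathlib
import Cfsg.Agent.Lib.Char.SpClass.Nilpotent

/-!
# Parity of the number of blocks

For `ε (-1)^(j-1) = -1` the form `B (C^(j-1) ·) ·` on `ker C^j` is alternating, so its rank, the number of blocks
of size `j`, is even.
-/

set_option autoImplicit false

open scoped Classical

namespace CfsgLib.Char.SpClass

open Module

variable {F : Type*} [Field F] {ε : F} {V : Type*} [AddCommGroup V] [Module F V]

theorem finrank_even_of_alt {W : Type*} [AddCommGroup W] [Module F W] [FiniteDimensional F W]
    (B : LinearMap.BilinForm F W) (hB : B.IsAlt) (hn : ∀ u, (∀ v, B u v = 0) → u = 0) :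
    Even (finrank F W) := by
  obtain ⟨a, k, b, hb1, hb2, hb3, hb4⟩ := CfsgLib.Classical.Alt.exists_sympBasis _ rfl B hB
  have hk : k = 0 := by
    by_contra h
    exact b.ne_zero _ (hn _ (hb4 ⟨0, Nat.pos_of_ne_zero h⟩))
  subst hk
  refine ⟨a, ?_⟩
  rw [Module.finrank_eq_card_basis b]
  simp

/-- The orthogonal of `ker C^j` is the image of `C^j`. -/
theorem orth_ker_eq_range [FiniteDimensional F V] (x : NilPair ε V) (j : ℕ) :
    x.B.orthogonal (LinearMap.ker (x.C ^ j)) = LinearMap.range (x.C ^ j) := by
  have hnd : x.B.Nondegenerate := (LinearMap.IsRefl.nondegenerate_iff_separatingLeft (isRefl x)).2 x.sep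
  refine (Submodule.eq_of_le_of_finrank_eq ?_ ?_).symm
  · rintro _ ⟨v, rfl⟩ u hu
    show x.B u ((x.C ^ j) v) = 0
    have h := flip_pow x j u v
    rw [LinearMap.mem_ker.1 hu, map_zero, LinearMap.zero_apply] at h
    exact (mul_eq_zero.1 h.symm).resolve_left (pow_ne_zero _ (neg_ne_zero.2 one_ne_zero))
  · rw [LinearMap.BilinForm.finrank_orthogonal hnd (LinearMap.ker (x.C ^ j))]
    have := LinearMap.finrank_range_add_finrank_ker (x.C ^ j)
    omega

theorem even_blk [FiniteDimensional F V] (h2 : (2 : F) ≠ 0) (x : NilPair ε V) (i : ℕ)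
    (hs : ε * (-1) ^ i = -1) : Even (blk x.C (i + 1)) := by
  set K := LinearMap.ker (x.C ^ (i + 1))
  let T : K →ₗ[F] V := (x.C ^ i).domRestrict K
  let γ : LinearMap.BilinForm F K := x.B.comp T K.subtype
  have hγ : γ.IsAlt := fun u => by
    have h := sym_pow x i (u : V) (u : V)
    rw [hs] at h
    have h' : (2 : F) * x.B ((x.C ^ i) u) u = 0 := by linear_combination h
    exact (mul_eq_zero.1 h').resolve_left h2
  set D : ℕ → Submodule F V := fun l => LinearMap.ker x.C ⊓ LinearMap.range (x.C ^ l)
  have hkey : ∀ l, rnk x.C (l + 1) + finrank F (D l) = rnk x.C l := by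
    intro l
    have h := LinearMap.finrank_range_add_finrank_ker (x.C.domRestrict (LinearMap.range (x.C ^ l)))
    have h1 : LinearMap.range (x.C.domRestrict (LinearMap.range (x.C ^ l))) = LinearMap.range (x.C ^ (l + 1)) := by
      rw [LinearMap.range_domRestrict, pow_succ', Module.End.mul_eq_comp, LinearMap.range_comp]
    have h3 : finrank F (LinearMap.ker (x.C.domRestrict (LinearMap.range (x.C ^ l)))) = finrank F (D l) := by
      rw [← Submodule.finrank_map_subtype_eq (LinearMap.range (x.C ^ l)) (LinearMap.ker (x.C.domRestrict _))]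
      have e : (LinearMap.ker (x.C.domRestrict (LinearMap.range (x.C ^ l)))).map (LinearMap.range (x.C ^ l)).subtype =
          D l := by
        ext v
        simp [D, Submodule.mem_map, LinearMap.domRestrict_apply, and_comm]
      rw [e]
    rw [h1, h3] at h
    exact h
  have hrange : LinearMap.range T = D i := by
    ext v
    constructor
    · rintro ⟨⟨u, hu⟩, rfl⟩
      refine ⟨?_, u, rfl⟩
      rw [SetLike.mem_coe, LinearMap.mem_ker] at *
      show x.C ((x.C ^ i) u) = 0
      rw [← Module.End.mul_apply, ← pow_succ']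
      exact LinearMap.mem_ker.1 hu
    · rintro ⟨hv, u, rfl⟩
      refine ⟨⟨u, ?_⟩, rfl⟩
      show (x.C ^ (i + 1)) u = 0
      rw [pow_succ', Module.End.mul_apply]
      exact LinearMap.mem_ker.1 hv
  have hrad : LinearMap.ker γ = (D (i + 1)).comap T := by
    ext u
    have e : (∀ v : K, x.B (T u) v = 0) ↔ T u ∈ LinearMap.range (x.C ^ (i + 1)) := by
      rw [← orth_ker_eq_range]
      constructor
      · intro h w hw
        exact isRefl x _ _ (h ⟨w, hw⟩)
      · intro h v
        exact isRefl x _ _ (h v v.2)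
    rw [LinearMap.mem_ker, Submodule.mem_comap, LinearMap.ext_iff]
    refine e.trans ⟨fun h => ⟨?_, h⟩, fun h => h.2⟩
    have h2 : T u ∈ D i := hrange ▸ LinearMap.mem_range_self T u
    exact h2.1
  obtain ⟨R, hR⟩ := Submodule.exists_isCompl (LinearMap.ker γ)
  have hev : Even (finrank F R) := by
    refine finrank_even_of_alt (γ.comp R.subtype R.subtype) (fun u => hγ _) fun u hu => ?_
    have h3 : (u : K) ∈ LinearMap.ker γ := by
      refine LinearMap.mem_ker.2 (LinearMap.ext fun y => ?_)
      obtain ⟨a, ha, c, hc, rfl⟩ := Submodule.mem_sup.1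
        (show y ∈ LinearMap.ker γ ⊔ R by rw [hR.sup_eq_top]; exact Submodule.mem_top)
      rw [map_add, hγ.isRefl a (u : K) (by rw [LinearMap.mem_ker.1 ha]; rfl),
        show γ (u : K) c = 0 from hu ⟨c, hc⟩, add_zero]
      rfl
    have h4 : (u : K) ∈ LinearMap.ker γ ⊓ R := ⟨h3, u.2⟩
    rw [hR.inf_eq_bot, Submodule.mem_bot] at h4
    exact Subtype.ext h4
  have hle : D (i + 1) ≤ D i := by
    refine inf_le_inf_left _ ?_
    rintro _ ⟨v, rfl⟩
    exact ⟨x.C v, by rw [pow_succ, Module.End.mul_apply]⟩
  have hdim : finrank F R + finrank F (D (i + 1)) = finrank F (D i) := by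
    have h5 := LinearMap.finrank_range_add_finrank_ker T
    have h6 := Submodule.finrank_add_eq_of_isCompl hR
    have h7 := LinearMap.finrank_range_add_finrank_ker (T.domRestrict (LinearMap.ker γ))
    have h8 : LinearMap.range (T.domRestrict (LinearMap.ker γ)) = D (i + 1) := by
      rw [LinearMap.range_domRestrict, hrad, Submodule.map_comap_eq, hrange, inf_eq_right.2 hle]
    have h9 : LinearMap.ker T ≤ LinearMap.ker γ := by
      rw [hrad]; intro u hu; rw [Submodule.mem_comap, LinearMap.mem_ker.1 hu]; exact zero_mem _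
    have h10 : finrank F (LinearMap.ker (T.domRestrict (LinearMap.ker γ))) = finrank F (LinearMap.ker T) :=
      LinearEquiv.finrank_eq (Submodule.comapSubtypeEquivOfLe h9)
    rw [hrange] at h5
    rw [h8, h10] at h7
    omega
  have a1 := hkey i
  have a2 := hkey (i + 1)
  have e : blk x.C (i + 1) = finrank F R := by
    simp only [blk, Nat.add_sub_cancel]
    rw [show i + 1 + 1 = (i + 1) + 1 from rfl]
    omega
  rwa [e]

end CfsgLib.Char.SpClass
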