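import Mathlib
import Cfsg.Agent.Lib.Char.SUClass.Dual
import Cfsg.Agent.Lib.Char.SpClass.Split

/-!
# The tuple of a symplectic matrix

The elementary divisors of a symplectic matrix are closed under the reciprocal, and those at `±1` of a given
exponent are as many as the Jordan blocks of that size of the Cayley transform.
-/

set_option autoImplicit false

namespace CfsgLib.Char.SpClass

open Polynomial Matrix CfsgLib.IsometryConj CfsgLib.GLClass

variable {F : Type*} [Field F]

/-- The reciprocal. -/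
noncomputable def rdual (g : F[X]) : F[X] := Polynomial.C (g.eval 0)⁻¹ * g.reverse

variable {g h : F[X]}

theorem natDegree_rdual (h0 : g.eval 0 ≠ 0) : (rdual g).natDegree = g.natDegree := by
  rw [rdual, natDegree_C_mul (inv_ne_zero h0), reverse_natDegree,
    natTrailingDegree_eq_zero.2 (Or.inr (by rwa [coeff_zero_eq_eval_zero])), Nat.sub_zero]

theorem coeff_rdual (j : ℕ) (hj : j ≤ g.natDegree) :
    (rdual g).coeff j = (g.eval 0)⁻¹ * g.coeff (g.natDegree - j) := by
  rw [rdual, coeff_C_mul, coeff_reverse, revAt_le hj]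

theorem monic_rdual (h0 : g.eval 0 ≠ 0) : (rdual g).Monic := by
  rw [Monic, leadingCoeff, natDegree_rdual h0, coeff_rdual _ le_rfl, Nat.sub_self, coeff_zero_eq_eval_zero,
    inv_mul_cancel₀ h0]

theorem eval_rdual (hm : g.Monic) : (rdual g).eval 0 = (g.eval 0)⁻¹ := by
  rw [← coeff_zero_eq_eval_zero, coeff_rdual 0 (Nat.zero_le _), Nat.sub_zero, hm.coeff_natDegree, mul_one]

theorem eval_rdual_ne_zero (hm : g.Monic) (h0 : g.eval 0 ≠ 0) : (rdual g).eval 0 ≠ 0 := by
  rw [eval_rdual hm]; exact inv_ne_zero h0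

theorem rdual_rdual (hm : g.Monic) (h0 : g.eval 0 ≠ 0) : rdual (rdual g) = g := by
  refine Polynomial.ext fun j => ?_
  have hd := natDegree_rdual h0
  have hd2 := natDegree_rdual (eval_rdual_ne_zero hm h0)
  rcases le_or_gt j g.natDegree with hj | hj
  · rw [coeff_rdual j (hd.symm ▸ hj), eval_rdual hm, hd, coeff_rdual _ (Nat.sub_le _ _),
      Nat.sub_sub_self hj, inv_inv, ← mul_assoc, mul_inv_cancel₀ h0, one_mul]
  · rw [coeff_eq_zero_of_natDegree_lt (by omega), coeff_eq_zero_of_natDegree_lt hj]

theorem rdual_mul : rdual (g * h) = rdual g * rdual h := by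
  rw [rdual, rdual, rdual, eval_mul, mul_inv, map_mul, reverse_mul_of_domain]
  ring

theorem rdual_one : rdual (1 : F[X]) = 1 := by simp [rdual, reverse]

theorem rdual_pow (k : ℕ) : rdual (g ^ k) = rdual g ^ k := by
  induction k with
  | zero => simp [rdual_one]
  | succ k ih => rw [pow_succ, pow_succ, rdual_mul, ih]

theorem rdual_multiset_prod (t : Multiset F[X]) : rdual t.prod = (t.map rdual).prod := by
  induction t using Multiset.induction_on with
  | empty => simp [rdual_one]
  | cons a s ih => rw [Multiset.prod_cons, rdual_mul, Multiset.map_cons, Multiset.prod_cons, ih]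

theorem irreducible_rdual (hm : g.Monic) (h0 : g.eval 0 ≠ 0) (hi : Irreducible g) : Irreducible (rdual g) := by
  have hdm := monic_rdual h0
  have hd0 := eval_rdual_ne_zero hm h0
  refine hdm.irreducible_iff_natDegree.2 ⟨fun h1 => ?_, fun a b ha hb hab => ?_⟩
  · have := natDegree_rdual h0
    rw [h1, natDegree_one] at this
    exact hi.natDegree_pos.ne this
  · have hab0 : a.eval 0 ≠ 0 ∧ b.eval 0 ≠ 0 := by
      rw [← hab, eval_mul, mul_ne_zero_iff] at hd0
      exact hd0
    have e : rdual a * rdual b = g := by rw [← rdual_mul, hab, rdual_rdual hm h0]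
    rw [← natDegree_rdual hab0.1, ← natDegree_rdual hab0.2]
    exact (hm.irreducible_iff_natDegree.1 hi).2 _ _ (monic_rdual hab0.1) (monic_rdual hab0.2) e

variable [Fintype F] {m : ℕ}

local notation "Mat" => Matrix (Fin m ⊕ Fin m) (Fin m ⊕ Fin m) F

/-- A symplectic matrix on `Fin (m + m)`. -/
noncomputable def toFin (m : ℕ) (F : Type*) [Field F] :
    ↥(Matrix.symplecticGroup (Fin m) F) →* GL (Fin (m + m)) F :=
  ((Units.map (Matrix.reindexAlgEquiv F F finSumFinEquiv).toMonoidHom).comp
    ((Units.map (Matrix.symplecticGroup (Fin m) F).subtype).comp toUnits.toMonoidHom))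

theorem toFin_val (x : ↥(Matrix.symplecticGroup (Fin m) F)) :
    ((toFin m F x : GL (Fin (m + m)) F) : Matrix (Fin (m + m)) (Fin (m + m)) F) =
      Matrix.reindex finSumFinEquiv finSumFinEquiv (x : Mat) := rfl

theorem rank_aeval_toFin (x : ↥(Matrix.symplecticGroup (Fin m) F)) (R : F[X]) :
    (aeval ((toFin m F x : GL (Fin (m + m)) F) : Matrix (Fin (m + m)) (Fin (m + m)) F) R).rank =
      (aeval (x : Mat) R).rank := by
  rw [toFin_val, ← Matrix.reindexAlgEquiv_apply F F,
    show ∀ M : Mat, (Matrix.reindexAlgEquiv F F finSumFinEquiv) M =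
      (Matrix.reindexAlgEquiv F F finSumFinEquiv).toAlgHom M from fun _ => rfl,
    Polynomial.aeval_algHom_apply]
  exact Matrix.rank_reindex _ _ _

theorem st_aeval (M : Mat) (R : F[X]) :
    (sympAdjoint m F).st (aeval M R) = aeval ((sympAdjoint m F).st M) R := by
  induction R using Polynomial.induction_on with
  | C a =>
    rw [aeval_C, aeval_C, Algebra.algebraMap_eq_smul_one, st_smul, Adjoint.st_one]
  | add p r hp hr => rw [map_add, map_add, (sympAdjoint m F).st_add, hp, hr]
  | monomial k a ih =>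
    have e : ∀ N : Mat, aeval N (Polynomial.C a * X ^ (k + 1)) = aeval N (Polynomial.C a * X ^ k) * N := fun N => by
      rw [pow_succ, ← mul_assoc, map_mul (aeval N) (Polynomial.C a * X ^ k) X, aeval_X]
    rw [e, e, (sympAdjoint m F).st_mul, ih]
    have h := ((Commute.all (X : F[X]) (Polynomial.C a * X ^ k)).map (aeval ((sympAdjoint m F).st M))).eq
    rwa [aeval_X] at h

theorem rank_smul' {a : F} (ha : a ≠ 0) (M : Mat) : (a • M).rank = M.rank := by
  rw [← Matrix.one_mul M, ← Matrix.smul_mul, Matrix.rank_mul_eq_right_of_isUnit_det, Matrix.one_mul]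
  rw [Matrix.det_smul, Matrix.det_one, mul_one]
  exact (ha.isUnit.pow _)

theorem rank_st (M : Mat) : ((sympAdjoint m F).st M).rank = M.rank := by
  show (-(Matrix.J (Fin m) F * Mᵀ * Matrix.J (Fin m) F)).rank = _
  have hJ : IsUnit (Matrix.J (Fin m) F).det := Matrix.isUnit_det_J (Fin m) F
  rw [show -(Matrix.J (Fin m) F * Mᵀ * Matrix.J (Fin m) F) = Matrix.J (Fin m) F * Mᵀ * -Matrix.J (Fin m) F by
      rw [mul_neg],
    Matrix.rank_mul_eq_left_of_isUnit_det _ _ (by rw [Matrix.det_neg]; exact ((isUnit_one.neg).pow _).mul hJ),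
    Matrix.rank_mul_eq_right_of_isUnit_det _ _ hJ, Matrix.rank_transpose]

/-- The rank invariants of a symplectic matrix at reciprocal polynomials agree. -/
theorem rank_aeval_rdual (x : ↥(Matrix.symplecticGroup (Fin m) F)) {R : F[X]} (h0 : R.eval 0 ≠ 0) :
    (aeval (x : Mat) (rdual R)).rank = (aeval (x : Mat) R).rank := by
  have hA := (sympAdjoint_mem_iff (x : Mat)).1 x.2
  let u : (Mat)ˣ := ⟨(x : Mat), (sympAdjoint m F).st x, mul_eq_one_comm.1 hA, hA⟩
  have h1 : aeval (u : Mat) R.reverse = (u : Mat) ^ R.natDegree * aeval ((u⁻¹ : (Mat)ˣ) : Mat) R := by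
    have key : ∀ i, i ≤ R.natDegree → (u : Mat) ^ (R.natDegree - i) = (u : Mat) ^ R.natDegree * ((u⁻¹ : (Mat)ˣ) : Mat) ^ i := by
      intro i hi
      rw [← Units.val_pow_eq_pow_val, ← Units.val_pow_eq_pow_val, ← Units.val_pow_eq_pow_val, ← Units.val_mul,
        inv_pow, ← pow_sub u hi]
    rw [aeval_eq_sum_range' (show R.reverse.natDegree < R.natDegree + 1 by rw [reverse_natDegree]; omega),
      aeval_eq_sum_range' (Nat.lt_succ_self R.natDegree), Finset.mul_sum,
      ← Finset.sum_range_reflect _ (R.natDegree + 1)]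
    refine Finset.sum_congr rfl fun i hi => ?_
    have hi' : i ≤ R.natDegree := Nat.le_of_lt_succ (Finset.mem_range.1 hi)
    rw [show R.natDegree + 1 - 1 - i = R.natDegree - i by omega, coeff_reverse, revAt_le (Nat.sub_le _ _),
      Nat.sub_sub_self hi', key i hi', mul_smul_comm]
  rw [rdual, map_mul, aeval_C, Algebra.algebraMap_eq_smul_one, smul_mul_assoc, one_mul,
    rank_smul' (inv_ne_zero h0), show (x : Mat) = (u : Mat) from rfl, h1,
    Matrix.rank_mul_eq_right_of_isUnit_det _ _ ((Matrix.isUnit_iff_isUnit_det _).1 (u.isUnit.pow _)),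
    show ((u⁻¹ : (Mat)ˣ) : Mat) = (sympAdjoint m F).st (u : Mat) from rfl, ← st_aeval, rank_st]

/-- The tuple of a symplectic matrix is fixed by the reciprocal. -/
theorem rdual_classTup (x : ↥(Matrix.symplecticGroup (Fin m) F)) (k : Fin (m + m)) :
    rdual ((classTup (toFin m F x)).1 k).1 = ((classTup (toFin m F x)).1 k).1 := by
  classical
  set y := toFin m F x with hy
  obtain ⟨t, ht⟩ : ∃ t : Multiset F[X], t = (Finset.univ.filter fun i => classIdx y i = k).val.map (classDecomp y).P :=
    ⟨_, rfl⟩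
  have hmem : ∀ P ∈ t, P.Monic ∧ Irreducible P ∧ P.eval 0 ≠ 0 := fun P hP => by
    rw [ht] at hP
    obtain ⟨i, -, rfl⟩ := Multiset.mem_map.1 hP
    exact ⟨(classDecomp y).monic i, (classDecomp y).irred i, eval_P_ne_zero y i⟩
  have hcount : ∀ P, Multiset.count P t = (classDecomp y).count P (1 + k.val) := fun P => by
    rw [count_eq_classTup, normalizedFactors_classTup, ht]
  have hdual : ∀ {P : F[X]}, P.Monic → Irreducible P → P.eval 0 ≠ 0 →
      (classDecomp y).count (rdual P) (1 + k.val) = (classDecomp y).count P (1 + k.val) := fun {P} hP hPi h0 =>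
    SUClass.count_eq_count _ (monic_rdual h0) (irreducible_rdual hP h0 hPi) hP hPi (natDegree_rdual h0) (fun j => by
      rw [rk_mod, rk_mod, hy, rank_aeval_toFin, rank_aeval_toFin, ← rdual_pow,
        rank_aeval_rdual x (by rw [eval_pow]; exact pow_ne_zero _ h0)]) _
  have hperm : t.map rdual = t := by
    refine Multiset.ext.2 fun P => ?_
    by_cases hP : P.Monic ∧ Irreducible P ∧ P.eval 0 ≠ 0
    · have h1 : Multiset.count P (t.map rdual) = Multiset.count (rdual P) t := by
        rw [Multiset.count_map, Multiset.count, Multiset.countP_eq_card_filter]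
        congr 1
        refine Multiset.filter_congr fun a ha => ⟨?_, ?_⟩
        · rintro rfl
          exact rdual_rdual (hmem a ha).1 (hmem a ha).2.2
        · rintro rfl
          exact (rdual_rdual hP.1 hP.2.2).symm
      rw [h1, hcount, hcount, hdual hP.1 hP.2.1 hP.2.2]
    · rw [Multiset.count_eq_zero.2, Multiset.count_eq_zero.2 fun h => hP (hmem P h)]
      intro h
      obtain ⟨a, ha, rfl⟩ := Multiset.mem_map.1 h
      obtain ⟨am, ai, a0⟩ := hmem a ha
      exact hP ⟨monic_rdual a0, irreducible_rdual am a0 ai, eval_rdual_ne_zero am a0⟩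
  rw [show ((classTup y).1 k).1 = t.prod by rw [ht]; rfl, rdual_multiset_prod, hperm]

/-! ### blocks at `±1` -/

/-- Ranks of the powers of the Cayley map. -/
theorem rnk_eC_add (h2 : (2 : F) ≠ 0) {l : F} (hl : l * l = 1) (A : Mat) (i : ℕ) :
    rnk (eC l A) i + (1 - eid l A).rank = ((A - l • 1) ^ i).rank := by
  classical
  have hl0 : l ≠ 0 := left_ne_zero_of_mul_eq_one hl
  set e := eid l A with he
  set D := A - l • (1 : Mat) with hD
  set w := (A + l • (1 : Mat)) ^ (bigExp m F - 1) with hw
  have hAD : Commute A D := (Commute.refl A).sub_right ((Commute.one_right A).smul_right l)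
  have hAp : Commute A (A + l • (1 : Mat)) := (Commute.refl A).add_right ((Commute.one_right A).smul_right l)
  have hDp : Commute D (A + l • (1 : Mat)) := hAp.sub_left ((Commute.one_left _).smul_left l)
  have hDe : Commute D e := commute_eid ((Commute.refl A).sub_left ((Commute.one_left A).smul_left l))
  have hpe : Commute (A + l • (1 : Mat)) e :=
    commute_eid ((Commute.refl A).add_left ((Commute.one_left A).smul_left l))
  have hwe : Commute w e := hpe.pow_left _
  have hk : (A + l • (1 : Mat)) * w * e = e := add_mul_pow_eid h2 hl0 A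
  have he2 : ∀ j : ℕ, e ^ (j + 1) = e := fun j => IsIdempotentElem.pow_succ_eq j (eid_idem l A)
  have hcm : cm l A ^ i * e = w ^ i * (D ^ i * e) := by
    rw [cm, ← hD, ← hw, ← he, (hDe.mul_left hwe).mul_pow, mul_assoc, ← pow_succ, he2,
      (show Commute D w from hDp.pow_right _).mul_pow,
      ((show Commute D w from hDp.pow_right _).pow_pow i i).eq, mul_assoc]
  have hinv : (A + l • (1 : Mat)) ^ i * (w ^ i * e) = e := by
    rw [← mul_assoc, ← (show Commute (A + l • (1 : Mat)) w from (Commute.refl _).pow_right _).mul_pow]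
    clear hcm
    induction i with
    | zero => rw [pow_zero, one_mul]
    | succ j ih => rw [pow_succ, mul_assoc, hk]; exact ih
  have h1 : rnk (eC l A) i = (D ^ i * e).rank := by
    rw [rnk_eC, ← he, hcm]
    refine le_antisymm (Matrix.rank_mul_le_right _ _) ?_
    have e1 : D ^ i * e = (A + l • (1 : Mat)) ^ i * (w ^ i * (D ^ i * e)) := by
      calc D ^ i * e = D ^ i * ((A + l • (1 : Mat)) ^ i * (w ^ i * e)) := by rw [hinv]
        _ = _ := by
          rw [← mul_assoc, (hDp.pow_pow i i).eq, mul_assoc, ← mul_assoc (D ^ i),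
            ((show Commute D w from hDp.pow_right _).pow_pow i i).eq, mul_assoc]
    conv_lhs => rw [e1]
    exact Matrix.rank_mul_le_right _ _
  have h3 : (1 - e).rank = (D ^ i * (1 - e)).rank := by
    refine le_antisymm ?_ (Matrix.rank_mul_le_right _ _)
    have e3 : 1 - e = D ^ bigExp m F := one_sub_eid l A
    have hidem : ∀ j : ℕ, (D ^ bigExp m F) ^ (j + 1) = D ^ bigExp m F := fun j =>
      IsIdempotentElem.pow_succ_eq j (pow_bigExp_idem D)
    have hE := bigExp_pos (m := m) (F := F)
    have e4 : 1 - e = D ^ (bigExp m F * (i + 1) - i) * (D ^ i * (1 - e)) := by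
      have : i ≤ bigExp m F * (i + 1) := le_trans (Nat.le_succ i) (Nat.le_mul_of_pos_left _ hE)
      rw [← mul_assoc, ← pow_add, Nat.sub_add_cancel this, pow_mul, hidem, e3, pow_bigExp_idem]
    conv_lhs => rw [e4]
    exact Matrix.rank_mul_le_right _ _
  rw [h1, h3]
  have hc : Commute (D ^ i) e := hDe.pow_left _
  have key : ∀ X : Mat, Commute X e → (X * e).rank + (X * (1 - e)).rank = X.rank := by
    intro X hX
    have hee : e * e = e := eid_idem l A
    set R1 := LinearMap.range (X * e).mulVecLin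
    set R2 := LinearMap.range (X * (1 - e)).mulVecLin
    have hsup : R1 ⊔ R2 = LinearMap.range X.mulVecLin := by
      refine le_antisymm (sup_le ?_ ?_) ?_
      · rintro _ ⟨v, rfl⟩; exact ⟨e *ᵥ v, by simp [Matrix.mulVec_mulVec]⟩
      · rintro _ ⟨v, rfl⟩; exact ⟨(1 - e) *ᵥ v, by simp only [Matrix.mulVecLin_apply]; exact Matrix.mulVec_mulVec _ _ _⟩
      · rintro _ ⟨v, rfl⟩
        refine Submodule.mem_sup.2 ⟨_, ⟨v, rfl⟩, _, ⟨v, rfl⟩, ?_⟩
        simp only [Matrix.mulVecLin_apply, ← Matrix.add_mulVec, ← mul_add, add_sub_cancel, mul_one]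
    have hinf : R1 ⊓ R2 = ⊥ := by
      refine eq_bot_iff.2 ?_
      rintro v ⟨⟨a, ha⟩, ⟨b, hb⟩⟩
      simp only [Matrix.mulVecLin_apply] at ha hb
      have e1 : e *ᵥ v = v := by
        rw [← ha, Matrix.mulVec_mulVec, ← mul_assoc, ← hX.eq, mul_assoc, hee]
      have e2 : e *ᵥ v = 0 := by
        rw [← hb, Matrix.mulVec_mulVec, ← mul_assoc, ← hX.eq, mul_assoc, mul_sub, mul_one, hee, sub_self, mul_zero,
          Matrix.zero_mulVec]
      exact (Submodule.mem_bot F).2 (e1.symm.trans e2)
    have := Submodule.finrank_sup_add_finrank_inf_eq R1 R2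
    rw [hsup, hinf, finrank_bot, add_zero] at this
    exact this.symm
  exact key _ hc

/-- The Jordan blocks of the Cayley map are the elementary divisors at `l`. -/
theorem count_eq_blk (h2 : (2 : F) ≠ 0) {l : F} (hl : l * l = 1) (x : ↥(Matrix.symplecticGroup (Fin m) F)) (k : ℕ) :
    (classDecomp (toFin m F x)).count (X - Polynomial.C l) (k + 1) = blk (eC l (x : Mat)) (k + 1) := by
  classical
  set D := classDecomp (toFin m F x)
  set P := X - Polynomial.C l
  let f : ℕ → ℕ := fun j => ∑ i, if D.P i = P then min (D.e i) j else 0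
  have hrk : ∀ j, rnk (eC l (x : Mat)) j + (1 - eid l (x : Mat)).rank + f j = ∑ i, D.e i * (D.P i).natDegree := by
    intro j
    rw [rnk_eC_add h2 hl]
    have h := D.rk_add (monic_X_sub_C l) (irreducible_X_sub_C l) j
    rw [rk_mod, rank_aeval_toFin, map_pow] at h
    simp only [map_sub, aeval_X, aeval_C, Algebra.algebraMap_eq_smul_one, natDegree_X_sub_C, mul_one] at h
    rw [← h]
  have hc : D.count P (k + 1) + f k + f (k + 2) = 2 * f (k + 1) := by
    rw [Decomp.count, Nat.card_eq_fintype_card, Fintype.card_subtype, Finset.card_filter]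
    simp only [f, ← Finset.sum_add_distrib, Finset.mul_sum]
    refine Finset.sum_congr rfl fun i _ => ?_
    by_cases hR : D.P i = P <;> simp [hR] <;> split_ifs <;> omega
  have a0 := hrk k
  have a1 := hrk (k + 1)
  have a2 := hrk (k + 2)
  simp only [blk, Nat.add_sub_cancel, show k + 1 + 1 = k + 2 from rfl]
  omega

end CfsgLib.Char.SpClass
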