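import Mathlib
import Cfsg.Agent.Lib.Char.SpClass.Dual
import Cfsg.Agent.Lib.IsometryConj.OrthClasses

/-!
# Tuples fixed by the reciprocal, weighted by the possible discriminants

The tuples of polynomials fixed by the reciprocal, with even multiplicity of `±1` at the odd exponents, weighted by
two for each of the roots `±1` at an even exponent, are at most `10.8 q^m` in number at weight `2m`.
-/

set_option autoImplicit false

open scoped Classical

namespace CfsgLib.Char.SpClass

open Polynomial CfsgLib.GLClass CfsgLib.IsometryConj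

variable {F : Type*} [Field F]

/-- The entries allowed at exponent `j`. -/
def Adm (j : ℕ) (g : F[X]) : Prop :=
  rdual g = g ∧ (Odd j → Even (g.rootMultiplicity 1) ∧ Even (g.rootMultiplicity (-1)))

/-- The weight of an entry at exponent `j`. -/
noncomputable def wt (j : ℕ) (g : F[X]) : ℕ :=
  if Even j then (if g.eval 1 = 0 then 2 else 1) * (if g.eval (-1) = 0 then 2 else 1) else 1

theorem rdual_X_sub_C {c : F} (hc : c * c = 1) : rdual (X - C c : F[X]) = X - C c := by
  have hc0 : c ≠ 0 := left_ne_zero_of_mul_eq_one hc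
  have he : (X - C c : F[X]).eval 0 ≠ 0 := by simpa using hc0
  refine Polynomial.ext fun j => ?_
  rcases le_or_gt j 1 with hj | hj
  · rw [coeff_rdual j (by rw [natDegree_X_sub_C]; exact hj), natDegree_X_sub_C]
    have hinv : c⁻¹ = c := inv_eq_of_mul_eq_one_left hc
    interval_cases j <;> simp [inv_neg, hinv, hc]
  · rw [coeff_eq_zero_of_natDegree_lt (by rw [natDegree_rdual he, natDegree_X_sub_C]; omega),
      coeff_eq_zero_of_natDegree_lt (by rw [natDegree_X_sub_C]; omega)]

variable (h2 : (2 : F) ≠ 0) [Fintype F]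

include h2 in
/-- A self-reciprocal polynomial without the roots `±1` is a symmetrisation. -/
theorem exists_symmetrize_of_sym {h : F[X]} (hm : h.Monic) (h0 : h.eval 0 ≠ 0) (hs : rdual h = h)
    (h1 : h.eval 1 ≠ 0) (hn1 : h.eval (-1) ≠ 0) :
    ∃ Q : F[X], Q.Monic ∧ h.natDegree = 2 * Q.natDegree ∧ Q.eval 2 ≠ 0 ∧ Q.eval (-2) ≠ 0 ∧
      symmetrize Q.natDegree Q = h := by
  have hco : ∀ j ≤ h.natDegree, h.coeff (h.natDegree - j) = h.eval 0 * h.coeff j := fun j hj => by
    have e := coeff_rdual (g := h) j hj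
    rw [hs] at e
    rw [e, ← mul_assoc, mul_inv_cancel₀ h0, one_mul]
  have hev : ∀ c : F, c * c = 1 → h.eval c = c ^ h.natDegree * h.eval 0 * h.eval c := by
    intro c hc
    conv_lhs => rw [Polynomial.eval_eq_sum_range, ← Finset.sum_range_reflect]
    conv_rhs => arg 2; rw [Polynomial.eval_eq_sum_range]
    rw [Finset.mul_sum]
    refine Finset.sum_congr rfl fun i hi => ?_
    have hi' : i ≤ h.natDegree := Nat.le_of_lt_succ (Finset.mem_range.1 hi)
    rw [show h.natDegree + 1 - 1 - i = h.natDegree - i by omega, hco i hi']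
    have e : c ^ h.natDegree = c ^ (h.natDegree - i) * c ^ i := by rw [← pow_add, Nat.sub_add_cancel hi']
    have e2 : c ^ i * c ^ i = 1 := by rw [← mul_pow, hc, one_pow]
    rw [e]
    linear_combination (-(c ^ (h.natDegree - i)) * h.eval 0 * h.coeff i) * e2
  have hc1 : h.eval 0 = 1 := by
    have e := hev 1 (one_mul 1)
    rw [one_pow, one_mul] at e
    exact (mul_eq_right₀ h1).1 e.symm
  have hev2 : Even h.natDegree := by
    have e := hev (-1) (by ring)
    rw [hc1, mul_one] at e
    rcases Nat.even_or_odd h.natDegree with hp | hp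
    · exact hp
    · rw [hp.neg_one_pow] at e
      exact absurd ((mul_eq_zero.1 (show (2 : F) * h.eval (-1) = 0 by linear_combination e)).resolve_left h2) hn1
  obtain ⟨d, hd⟩ := hev2
  rw [← two_mul] at hd
  obtain ⟨Q, hQm, hQd, hQs⟩ := exists_symmetrize h hm hd fun j hj => by
    rw [← hd] at hj ⊢
    rw [hco j hj, hc1, one_mul]
  subst hQd
  refine ⟨Q, hQm, hd, ?_, ?_, hQs⟩
  · rw [← symmetrize_eval_one Q.natDegree Q le_rfl, hQs]; exact h1
  · intro e
    exact hn1 (by rw [← hQs, symmetrize_eval_neg_one _ Q le_rfl, e, mul_zero])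

/-- The splitting of an entry. -/
theorem exists_dec (g : MonicNZ F) :
    ∃ (a b : ℕ) (h : F[X]), g.1 = (X - C 1) ^ a * (X - C (-1)) ^ b * h ∧ h.Monic ∧ h.eval 0 ≠ 0 ∧
      a = g.1.rootMultiplicity 1 ∧ ((2 : F) ≠ 0 → b = g.1.rootMultiplicity (-1) ∧ h.eval 1 ≠ 0 ∧ h.eval (-1) ≠ 0) := by
  obtain ⟨g₁, hg₁, hg₁n⟩ := g.1.exists_eq_pow_rootMultiplicity_mul_and_not_dvd g.2.1.ne_zero 1
  have hg₁0 : g₁ ≠ 0 := fun h => g.2.1.ne_zero (by rw [hg₁, h, mul_zero])
  obtain ⟨h, hh, hhn⟩ := g₁.exists_eq_pow_rootMultiplicity_mul_and_not_dvd hg₁0 (-1)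
  have e : g.1 = (X - C 1) ^ g.1.rootMultiplicity 1 * (X - C (-1)) ^ g₁.rootMultiplicity (-1) * h := by
    rw [mul_assoc, ← hh, ← hg₁]
  refine ⟨_, _, h, e, ?_, ?_, rfl, fun h2 => ⟨?_, ?_, fun hz => hhn (dvd_iff_isRoot.2 hz)⟩⟩
  · have hm := g.2.1
    rw [e] at hm
    exact (((monic_X_sub_C 1).pow _).mul ((monic_X_sub_C (-1)).pow _)).of_mul_monic_left hm
  · intro hz
    refine g.2.2 ?_
    rw [e, eval_mul, hz, mul_zero]
  · conv_rhs => rw [hg₁]
    rw [rootMultiplicity_mul (mul_ne_zero (pow_ne_zero _ (X_sub_C_ne_zero _)) hg₁0),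
      rootMultiplicity_eq_zero (p := (X - C (1 : F)) ^ _) (by
        simp only [IsRoot.def, eval_pow, eval_sub, eval_X, eval_C]
        refine pow_ne_zero _ fun hz => h2 ?_
        linear_combination -hz), zero_add]
  · intro hz
    exact hg₁n (by rw [hh]; exact (dvd_iff_isRoot.2 hz).mul_left _)

include h2 in
theorem exists_dec_sym (g : MonicNZ F) (hs : rdual g.1 = g.1) :
    ∃ (a b : ℕ) (Q : F[X]), Q.Monic ∧ Q.eval 2 ≠ 0 ∧ Q.eval (-2) ≠ 0 ∧
      g.1 = (X - C 1) ^ a * (X - C (-1)) ^ b * symmetrize Q.natDegree Q ∧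
      g.1.natDegree = a + b + 2 * Q.natDegree ∧ a = g.1.rootMultiplicity 1 ∧ b = g.1.rootMultiplicity (-1) := by
  obtain ⟨a, b, h, e, hm, h0, ha, hb'⟩ := exists_dec g
  obtain ⟨hb, h1, hn1⟩ := hb' h2
  have hsh : rdual h = h := by
    have e2 : rdual g.1 = (X - C 1) ^ a * (X - C (-1)) ^ b * rdual h := by
      rw [e, rdual_mul, rdual_mul, rdual_pow, rdual_pow, rdual_X_sub_C (one_mul 1), rdual_X_sub_C (by ring)]
    rw [hs, e] at e2
    exact (mul_left_cancel₀ (mul_ne_zero (pow_ne_zero _ (X_sub_C_ne_zero _)) (pow_ne_zero _ (X_sub_C_ne_zero _))) e2).symm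
  obtain ⟨Q, hQm, hQd, hQ2, hQn2, hQs⟩ := exists_symmetrize_of_sym h2 hm h0 hsh h1 hn1
  refine ⟨a, b, Q, hQm, hQ2, hQn2, by rw [hQs]; exact e, ?_, ha, hb⟩
  rw [e, (((monic_X_sub_C 1).pow a).mul ((monic_X_sub_C (-1)).pow b)).natDegree_mul hm,
    ((monic_X_sub_C 1).pow a).natDegree_mul ((monic_X_sub_C (-1)).pow b), natDegree_pow, natDegree_pow,
    natDegree_X_sub_C, natDegree_X_sub_C, hQd]
  omega

include h2 in
theorem even_natDegree_of_adm {j : ℕ} (hj : Odd j) (g : MonicNZ F) (h : Adm j g.1) : Even g.1.natDegree := by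
  obtain ⟨a, b, Q, -, -, -, -, hd, ha, hb⟩ := exists_dec_sym h2 g h.1
  rw [hd]
  exact (((ha ▸ (h.2 hj).1).add (hb ▸ (h.2 hj).2))).add (even_two_mul _)

theorem finite_deg_le (N : ℕ) : Finite {g : F[X] // g.Monic ∧ g.natDegree ≤ N} := by
  refine Finite.of_injective (β := Fin (N + 1) → F) (fun g i => g.1.coeff i) fun a b h => Subtype.ext ?_
  ext i
  rcases le_or_gt i N with hi | hi
  · exact congrFun h ⟨i, by omega⟩
  · rw [coeff_eq_zero_of_natDegree_lt (by have := a.2.2; omega),
      coeff_eq_zero_of_natDegree_lt (by have := b.2.2; omega)]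

/-- The monic polynomials of a degree. -/
noncomputable def monics (d : ℕ) : Finset F[X] :=
  Finset.univ.image fun v : Fin d → F =>
    X ^ d + ((degreeLTEquiv F d).symm v : F[X])

theorem mem_monics {d : ℕ} {P : F[X]} : P ∈ monics d ↔ P.Monic ∧ P.natDegree = d := by
  rw [monics, Finset.mem_image]
  constructor
  · rintro ⟨v, -, rfl⟩
    have h := mem_degreeLT.1 ((degreeLTEquiv F d).symm v).2
    refine ⟨monic_X_pow_add h, ?_⟩
    refine natDegree_eq_of_degree_eq_some ?_
    rw [add_comm, degree_add_eq_right_of_degree_lt (by rwa [degree_X_pow]), degree_X_pow]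
  · rintro ⟨hm, hd⟩
    refine ⟨degreeLTEquiv F d ⟨P - X ^ d, mem_degreeLT.2 ?_⟩, Finset.mem_univ _, by simp⟩
    have h1 := degree_sub_lt_left (show P.degree = (X ^ d : F[X]).degree by
      rw [degree_X_pow, degree_eq_natDegree hm.ne_zero, hd]) hm.ne_zero
      (by rw [hm.leadingCoeff, leadingCoeff_X_pow])
    rwa [degree_eq_natDegree hm.ne_zero, hd] at h1

theorem card_monics (d : ℕ) : (monics (F := F) d).card = Fintype.card F ^ d := by
  rw [monics, Finset.card_image_of_injective _ fun v w h => (degreeLTEquiv F d).symm.injective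
    (Subtype.ext (add_left_cancel h))]
  simp

include h2 in
theorem card_no_root_pm_two (d : ℕ) :
    ((monics (F := F) d).filter fun P => P.eval 2 ≠ 0 ∧ P.eval (-2) ≠ 0).card + 2 * Fintype.card F ^ (d - 1) ≤
      (if d = 0 then 3 else Fintype.card F ^ d + (if d = 1 then 0 else Fintype.card F ^ (d - 2))) := by
  rcases Nat.eq_zero_or_pos d with rfl | hd
  · have h := Finset.card_filter_le (monics (F := F) 0) fun P => P.eval 2 ≠ 0 ∧ P.eval (-2) ≠ 0
    rw [card_monics, pow_zero] at h
    simp only [Nat.zero_sub, pow_zero, if_pos]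
    omega
  set M := monics (F := F) d
  set A := M.filter fun P => P.eval 2 = 0
  set B := M.filter fun P => P.eval (-2) = 0
  have hone : ∀ c : F, Fintype.card F ^ (d - 1) ≤ (M.filter fun P => P.eval c = 0).card := by
    intro c
    rw [← card_monics (F := F) (d - 1)]
    refine Finset.card_le_card_of_injOn (fun R => (X - C c) * R) (fun R hR => ?_) fun R _ R' _ h =>
      mul_left_cancel₀ (X_sub_C_ne_zero c) h
    obtain ⟨hm, hR⟩ := mem_monics.1 hR
    refine Finset.mem_filter.2 ⟨mem_monics.2 ⟨(monic_X_sub_C c).mul hm, ?_⟩, by simp⟩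
    rw [(monic_X_sub_C c).natDegree_mul hm, natDegree_X_sub_C, hR]; omega
  have hne : (2 : F) ≠ -2 := fun h => mul_ne_zero h2 h2 (by linear_combination h)
  have hboth : (A ∩ B).card ≤ if d = 1 then 0 else Fintype.card F ^ (d - 2) := by
    have hfac : ∀ P ∈ A ∩ B, ∃ R : F[X], R.Monic ∧ P.natDegree = 2 + R.natDegree ∧
        (X - C 2) * (X - C (-2)) * R = P := by
      intro P hP
      simp only [A, B, Finset.mem_inter, Finset.mem_filter] at hP
      obtain ⟨R, hR⟩ := IsCoprime.mul_dvd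
        (isCoprime_X_sub_C_of_isUnit_sub (sub_ne_zero.2 hne).isUnit) (dvd_iff_isRoot.2 hP.1.2) (dvd_iff_isRoot.2 hP.2.2)
      have hm := (mem_monics.1 hP.1.1).1
      have h12 := (monic_X_sub_C (2 : F)).mul (monic_X_sub_C (-2))
      have hRm : R.Monic := h12.of_mul_monic_left (hR ▸ hm)
      refine ⟨R, hRm, ?_, hR.symm⟩
      rw [hR, h12.natDegree_mul hRm, (monic_X_sub_C _).natDegree_mul (monic_X_sub_C _), natDegree_X_sub_C,
        natDegree_X_sub_C]
    split_ifs with hd1
    · refine le_of_eq (Finset.card_eq_zero.2 (Finset.eq_empty_iff_forall_notMem.2 fun P hP => ?_))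
      obtain ⟨R, -, hdeg, -⟩ := hfac P hP
      simp only [A, B, Finset.mem_inter, Finset.mem_filter] at hP
      have := (mem_monics.1 hP.1.1).2
      omega
    · rw [← card_monics (F := F) (d - 2)]
      refine le_trans (Finset.card_le_card (t := (monics (d - 2)).image fun R => (X - C 2) * (X - C (-2)) * R) ?_)
        Finset.card_image_le
      intro P hP
      obtain ⟨R, hRm, hdeg, hR⟩ := hfac P hP
      simp only [A, B, Finset.mem_inter, Finset.mem_filter] at hP
      have := (mem_monics.1 hP.1.1).2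
      exact Finset.mem_image.2 ⟨R, mem_monics.2 ⟨hRm, by omega⟩, hR⟩
  have e : M.filter (fun P => P.eval 2 ≠ 0 ∧ P.eval (-2) ≠ 0) = M \ (A ∪ B) := by
    ext P
    simp only [A, B, Finset.mem_filter, Finset.mem_sdiff, Finset.mem_union]
    tauto
  have hsub : A ∪ B ⊆ M := Finset.union_subset (Finset.filter_subset _ _) (Finset.filter_subset _ _)
  have h1 : A.card ≥ Fintype.card F ^ (d - 1) := hone 2
  have h1' : B.card ≥ Fintype.card F ^ (d - 1) := hone (-2)
  have h3 := Finset.card_union_add_card_inter A B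
  have h4 := Finset.card_le_card hsub
  have h5 : M.card = Fintype.card F ^ d := card_monics d
  rw [e, Finset.card_sdiff_of_subset hsub, if_neg (by omega)]
  omega

theorem geom_le {s : ℚ} (h0 : 0 ≤ s) (h1 : s < 1) (S : Finset ℕ) : ∑ i ∈ S, s ^ i ≤ 1 / (1 - s) := by
  have key : ∀ N, ∑ i ∈ Finset.range N, s ^ i ≤ 1 / (1 - s) := by
    intro N
    rw [le_div_iff₀ (by linarith), geom_sum_mul_neg]
    linarith [pow_nonneg h0 N]
  exact le_trans (Finset.sum_le_sum_of_subset_of_nonneg (t := Finset.range (S.sup id + 1))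
    (fun i hi => Finset.mem_range.2 (Nat.lt_succ_of_le (Finset.le_sup (f := id) hi))) fun i _ _ => pow_nonneg h0 _)
    (key _)

include h2 in
/-- The series of the polynomials without the roots `±2`. -/
theorem sum_monics_le (N : ℕ) {y : ℚ} (h0 : 0 ≤ y) (h1 : (Fintype.card F : ℚ) * y < 1) :
    ∑ d ∈ Finset.range N, (((monics (F := F) d).filter fun P => P.eval 2 ≠ 0 ∧ P.eval (-2) ≠ 0).card : ℚ) * y ^ d ≤
      (1 - y) ^ 2 / (1 - Fintype.card F * y) := by
  set q : ℚ := (Fintype.card F : ℚ) with hq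
  let c : ℕ → ℚ := fun d => (((monics (F := F) d).filter fun P => P.eval 2 ≠ 0 ∧ P.eval (-2) ≠ 0).card : ℚ)
  have c0 : c 0 ≤ 1 := by
    have h := card_no_root_pm_two h2 0
    rw [if_pos rfl, Nat.zero_sub, pow_zero] at h
    have h' : ((monics (F := F) 0).filter fun P => P.eval 2 ≠ 0 ∧ P.eval (-2) ≠ 0).card ≤ 1 := by omega
    show (((monics (F := F) 0).filter fun P => P.eval 2 ≠ 0 ∧ P.eval (-2) ≠ 0).card : ℚ) ≤ 1
    exact Nat.cast_le_one.2 h'
  have c1 : c 1 ≤ q - 2 := by
    have h := card_no_root_pm_two h2 1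
    simp only [Nat.sub_self, pow_zero, one_ne_zero, if_false, if_true, pow_one, add_zero, mul_one] at h
    have h' : (((monics (F := F) 1).filter fun P => P.eval 2 ≠ 0 ∧ P.eval (-2) ≠ 0).card : ℚ) + 2 ≤ q := by
      rw [hq]; exact_mod_cast h
    simp only [c]; linarith
  have c2 : ∀ i, c (i + 2) ≤ (q - 1) ^ 2 * q ^ i := by
    intro i
    have h := card_no_root_pm_two h2 (i + 2)
    rw [if_neg (by omega), if_neg (by omega), show i + 2 - 1 = i + 1 by omega, Nat.add_sub_cancel] at h
    have h' : (((monics (F := F) (i + 2)).filter fun P => P.eval 2 ≠ 0 ∧ P.eval (-2) ≠ 0).card : ℚ) +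
        2 * q ^ (i + 1) ≤ q ^ (i + 2) + q ^ i := by
      rw [hq]; exact_mod_cast h
    simp only [c]
    calc _ ≤ q ^ (i + 2) + q ^ i - 2 * q ^ (i + 1) := by linarith
      _ = _ := by ring
  show ∑ d ∈ Finset.range N, c d * y ^ d ≤ _
  refine le_trans (Finset.sum_le_sum_of_subset_of_nonneg (t := Finset.range (N + 2))
    (Finset.range_mono (by omega)) fun d _ _ => mul_nonneg (Nat.cast_nonneg _) (pow_nonneg h0 _)) ?_
  rw [Finset.sum_range_succ', Finset.sum_range_succ']
  have h3 : ∑ i ∈ Finset.range N, c (i + 1 + 1) * y ^ (i + 1 + 1) ≤ (q - 1) ^ 2 * y ^ 2 * (1 / (1 - q * y)) := by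
    refine le_trans (Finset.sum_le_sum fun i _ => mul_le_mul_of_nonneg_right (c2 i) (pow_nonneg h0 _)) ?_
    calc ∑ i ∈ Finset.range N, (q - 1) ^ 2 * q ^ i * y ^ (i + 1 + 1)
        = (q - 1) ^ 2 * y ^ 2 * ∑ i ∈ Finset.range N, (q * y) ^ i := by
          rw [Finset.mul_sum]; refine Finset.sum_congr rfl fun i _ => ?_; rw [mul_pow]; ring
      _ ≤ _ := mul_le_mul_of_nonneg_left (geom_le (by positivity) h1 _) (by positivity)
  have h4 : c (0 + 1) * y ^ (0 + 1) ≤ (q - 2) * y := by
    rw [zero_add, pow_one]; exact mul_le_mul_of_nonneg_right c1 h0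
  have h5 : c 0 * y ^ 0 ≤ 1 := by rw [pow_zero, mul_one]; exact c0
  have e : (1 - y) ^ 2 / (1 - q * y) = (q - 1) ^ 2 * y ^ 2 * (1 / (1 - q * y)) + (q - 2) * y + 1 := by
    have : 1 - q * y ≠ 0 := by linarith
    rw [mul_one_div, div_add' _ _ _ this, div_add' _ _ _ this]
    congr 1
    ring
  rw [e]
  exact add_le_add (add_le_add h3 h4) h5

/-- Entries of bounded degree allowed at exponent `j`. -/
noncomputable def entries (j N : ℕ) : Finset (MonicNZ F) :=
  haveI : Finite ↥({g : MonicNZ F | Adm j g.1 ∧ g.1.natDegree ≤ N} : Set (MonicNZ F)) := by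
    haveI := finite_deg_le (F := F) N
    exact Finite.of_injective (β := {g : F[X] // g.Monic ∧ g.natDegree ≤ N})
      (fun g => ⟨g.1.1, g.1.2.1, g.2.2⟩) fun a b h => Subtype.ext (Subtype.ext (congrArg Subtype.val h :))
  (Set.toFinite {g : MonicNZ F | Adm j g.1 ∧ g.1.natDegree ≤ N}).toFinset

theorem mem_entries {j N : ℕ} {g : MonicNZ F} : g ∈ entries j N ↔ Adm j g.1 ∧ g.1.natDegree ≤ N := by
  simp [entries]

/-- The bound of the series at exponent `j`. -/
def ent (x : ℚ) (j : ℕ) : ℚ := (if Even j then (1 + x ^ (j / 2)) ^ 4 else 1) / (1 - x ^ (j - 1))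

include h2 in
theorem sum_entries_le {j : ℕ} (hj : 2 ≤ j) (N : ℕ) {x : ℚ} (hx0 : 0 < x) (hx : (Fintype.card F : ℚ) * x = 1)
    (hx1 : x < 1) : ∑ g ∈ entries (F := F) j N, (wt j g.1 : ℚ) * x ^ (j * g.1.natDegree / 2) ≤ ent x j := by
  have hdec : ∀ g : entries (F := F) j N, ∃ (a b : ℕ) (Q : F[X]), Q.Monic ∧ Q.eval 2 ≠ 0 ∧ Q.eval (-2) ≠ 0 ∧
      g.1.1 = (X - C 1) ^ a * (X - C (-1)) ^ b * symmetrize Q.natDegree Q ∧
      g.1.1.natDegree = a + b + 2 * Q.natDegree ∧ a = g.1.1.rootMultiplicity 1 ∧ b = g.1.1.rootMultiplicity (-1) :=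
    fun g => exists_dec_sym h2 g.1 (mem_entries.1 g.2).1.1
  choose a b Q hQm hQ2 hQn2 heq hdeg ha hb using hdec
  set R := (Finset.range (N + 1)).filter fun i => Odd j → Even i with hR
  set Qs := (Finset.range (N + 1)).biUnion
    fun d => (monics (F := F) d).filter fun P => P.eval 2 ≠ 0 ∧ P.eval (-2) ≠ 0 with hQs
  let u : ℕ → ℚ := fun i => if i = 0 then 1 else 2
  let ua : ℕ → ℚ := fun i => if Even j then u i * (x ^ (j / 2)) ^ i else (x ^ j) ^ (i / 2)
  let y : ℚ := x ^ j
  let Ψ : (ℕ × ℕ) × F[X] → ℚ := fun t => ua t.1.1 * ua t.1.2 * y ^ t.2.natDegree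
  have hval : ∀ g : entries (F := F) j N, (wt j g.1.1 : ℚ) * x ^ (j * g.1.1.natDegree / 2) = Ψ ((a g, b g), Q g) := by
    intro g
    have hm := (mem_entries.1 g.2).1
    have r1 : g.1.1.eval 1 = 0 ↔ a g ≠ 0 := by
      rw [ha g, Nat.ne_zero_iff_zero_lt, rootMultiplicity_pos g.1.2.1.ne_zero]; rfl
    have r2 : g.1.1.eval (-1) = 0 ↔ b g ≠ 0 := by
      rw [hb g, Nat.ne_zero_iff_zero_lt, rootMultiplicity_pos g.1.2.1.ne_zero]; rfl
    simp only [Ψ, ua, u, wt, y]
    rcases Nat.even_or_odd j with hp | hp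
    · obtain ⟨i, rfl⟩ := hp
      simp only [show Even (i + i) from ⟨i, rfl⟩, if_true]
      rw [show (i + i) / 2 = i by omega, hdeg g,
        show (i + i) * (a g + b g + 2 * (Q g).natDegree) / 2 = i * a g + i * b g + (i + i) * (Q g).natDegree by
          rw [show (i + i) * (a g + b g + 2 * (Q g).natDegree) = 2 * (i * a g + i * b g + (i + i) * (Q g).natDegree) by ring]
          omega]
      simp only [r1, r2, pow_add, pow_mul]
      by_cases e1 : a g = 0 <;> by_cases e2 : b g = 0 <;> simp [e1, e2] <;> ring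
    · have hne := Nat.not_even_iff_odd.2 hp
      obtain ⟨α, hα⟩ := hm.2 hp |>.1
      obtain ⟨β, hβ⟩ := hm.2 hp |>.2
      rw [← ha g] at hα
      rw [← hb g] at hβ
      rw [if_neg hne, if_neg hne, if_neg hne, hdeg g, hα, hβ, show (α + α) / 2 = α by omega,
        show (β + β) / 2 = β by omega,
        show j * (α + α + (β + β) + 2 * (Q g).natDegree) / 2 = j * α + j * β + j * (Q g).natDegree by
          rw [show j * (α + α + (β + β) + 2 * (Q g).natDegree) = 2 * (j * α + j * β + j * (Q g).natDegree) by ring]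
          omega]
      simp only [Nat.cast_one, one_mul, pow_add, pow_mul]
  have hua0 : ∀ i, 0 ≤ ua i := fun i => by simp only [ua, u]; split_ifs <;> positivity
  rw [← Finset.sum_coe_sort, Finset.sum_congr rfl fun g _ => hval g]
  have hmem : ∀ g : entries (F := F) j N, ((a g, b g), Q g) ∈ (R ×ˢ R) ×ˢ Qs := fun g => by
    have hm := (mem_entries.1 g.2).1
    have hN := (mem_entries.1 g.2).2
    rw [hdeg g] at hN
    simp only [Finset.mem_product, hR, hQs, Finset.mem_filter, Finset.mem_range, Finset.mem_biUnion]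
    exact ⟨⟨⟨by omega, fun h => ha g ▸ (hm.2 h).1⟩, ⟨by omega, fun h => hb g ▸ (hm.2 h).2⟩⟩,
      ⟨(Q g).natDegree, by omega, mem_monics.2 ⟨hQm g, rfl⟩, hQ2 g, hQn2 g⟩⟩
  have hinj : ∀ g g' : entries (F := F) j N, ((a g, b g), Q g) = ((a g', b g'), Q g') → g = g' := by
    intro g g' h
    simp only [Prod.mk.injEq] at h
    exact Subtype.ext (Subtype.ext (by rw [heq g, heq g', h.1.1, h.1.2, h.2]))
  calc ∑ g : entries (F := F) j N, Ψ ((a g, b g), Q g)
      = ∑ t ∈ Finset.univ.image (fun g : entries (F := F) j N => ((a g, b g), Q g)), Ψ t :=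
        (Finset.sum_image fun g _ g' _ h => hinj g g' h).symm
    _ ≤ ∑ t ∈ (R ×ˢ R) ×ˢ Qs, Ψ t := by
        refine Finset.sum_le_sum_of_subset_of_nonneg (fun t ht => ?_) fun t _ _ =>
          mul_nonneg (mul_nonneg (hua0 _) (hua0 _)) (by positivity)
        obtain ⟨g, -, rfl⟩ := Finset.mem_image.1 ht
        exact hmem g
    _ = (∑ i ∈ R, ua i) * (∑ i ∈ R, ua i) * ∑ P ∈ Qs, y ^ P.natDegree := by
        simp only [Finset.sum_product, Ψ, ← Finset.mul_sum, ← Finset.sum_mul]
    _ ≤ _ := by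
      have hy : (Fintype.card F : ℚ) * y = x ^ (j - 1) := by
        show (Fintype.card F : ℚ) * x ^ j = _
        conv_lhs => rw [show j = (j - 1) + 1 by omega, pow_succ]
        rw [mul_comm (x ^ _), ← mul_assoc, hx, one_mul]
      have hy1 : x ^ (j - 1) < 1 := pow_lt_one₀ hx0.le hx1 (by omega)
      have hyy : y < 1 := pow_lt_one₀ hx0.le hx1 (by omega)
      have hQsum : ∑ P ∈ Qs, y ^ P.natDegree ≤ (1 - y) ^ 2 / (1 - x ^ (j - 1)) := by
        rw [← hy, hQs, Finset.sum_biUnion]
        · refine le_trans (le_of_eq (Finset.sum_congr rfl fun d _ => ?_))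
            (sum_monics_le h2 (N + 1) (by positivity) (by rw [hy]; exact hy1))
          rw [Finset.sum_congr rfl fun P hP => by rw [(mem_monics.1 (Finset.mem_filter.1 hP).1).2],
            Finset.sum_const, nsmul_eq_mul]
        · intro d _ d' _ hdd
          refine Finset.disjoint_left.2 fun P hP hP' => hdd ?_
          rw [← (mem_monics.1 (Finset.mem_filter.1 hP).1).2, (mem_monics.1 (Finset.mem_filter.1 hP').1).2]
      have hQ0 : 0 ≤ ∑ P ∈ Qs, y ^ P.natDegree := Finset.sum_nonneg fun P _ => by positivity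
      have hS0 : 0 ≤ ∑ i ∈ R, ua i := Finset.sum_nonneg fun i _ => hua0 i
      have h1y : 0 < 1 - y := by linarith
      rcases Nat.even_or_odd j with hp | hp
      · set s := x ^ (j / 2) with hs
        have hs1 : s < 1 := pow_lt_one₀ hx0.le hx1 (by omega)
        have hss : s * s = y := by
          rw [hs, ← pow_add]
          show x ^ _ = x ^ j
          congr 1; obtain ⟨i, rfl⟩ := hp; omega
        have hsum : ∑ i ∈ R, ua i ≤ (1 + s) / (1 - s) := by
          have e : ∀ i, ua i = 2 * s ^ i - (if i = 0 then 1 else 0) := fun i => by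
            simp only [ua, u, if_pos hp, hs]
            rcases Nat.eq_zero_or_pos i with rfl | hi
            · norm_num
            · simp [hi.ne']
          simp only [e, Finset.sum_sub_distrib, ← Finset.mul_sum, Finset.sum_ite_eq']
          rw [if_pos (Finset.mem_filter.2 ⟨Finset.mem_range.2 (Nat.succ_pos N), fun _ => ⟨0, rfl⟩⟩)]
          calc 2 * ∑ i ∈ R, s ^ i - 1 ≤ 2 * (1 / (1 - s)) - 1 := by
                linarith [geom_le (show 0 ≤ s by positivity) hs1 R]
            _ = _ := by rw [mul_one_div, div_sub_one (by linarith)]; congr 1; ring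
        rw [ent, if_pos hp, ← hs]
        calc _ ≤ (1 + s) / (1 - s) * ((1 + s) / (1 - s)) * ((1 - y) ^ 2 / (1 - x ^ (j - 1))) :=
              mul_le_mul (mul_le_mul hsum hsum hS0 (le_trans hS0 hsum)) hQsum hQ0
                (mul_self_nonneg _)
          _ = _ := by
              rw [← hss]
              have : (1 : ℚ) - s ≠ 0 := by linarith
              field_simp
              ring
      · have hne := Nat.not_even_iff_odd.2 hp
        have hsum : ∑ i ∈ R, ua i ≤ 1 / (1 - y) := by
          simp only [ua, if_neg hne]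
          rw [← Finset.sum_image (f := fun i => y ^ i) (g := fun i => i / 2) (fun i hi i' hi' h => by
            obtain ⟨c, rfl⟩ := (Finset.mem_filter.1 hi).2 hp
            obtain ⟨c', rfl⟩ := (Finset.mem_filter.1 hi').2 hp
            simp only at h; omega)]
          exact geom_le (by positivity) hyy _
        rw [ent, if_neg hne]
        calc _ ≤ 1 / (1 - y) * (1 / (1 - y)) * ((1 - y) ^ 2 / (1 - x ^ (j - 1))) :=
              mul_le_mul (mul_le_mul hsum hsum hS0 (le_trans hS0 hsum)) hQsum hQ0 (mul_self_nonneg _)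
          _ = _ := by field_simp

/-! ### the product -/

/-- The factor of the product bound. -/
def fac (x : ℚ) (i : ℕ) : ℚ := (1 + x ^ (i + 1)) ^ 4 / (1 - x ^ (i + 1))

theorem prod_fac_le (N : ℕ) {x : ℚ} (hx0 : 0 < x) (hx : x ≤ 1 / 3) :
    ∏ i ∈ Finset.range N, fac x i ≤ 54 / 5 := by
  have hpos : ∀ i, 0 < 1 - (1 / 3 : ℚ) ^ (i + 1) := fun i => by
    have := pow_lt_one₀ (show (0 : ℚ) ≤ 1 / 3 by norm_num) (show (1 / 3 : ℚ) < 1 by norm_num) (show i + 1 ≠ 0 by omega)
    linarith
  have hge : ∀ i, 1 ≤ fac (1 / 3) i := fun i => by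
    rw [fac, one_le_div (hpos i)]
    have h : (0 : ℚ) ≤ (1 / 3) ^ (i + 1) := by positivity
    nlinarith [one_le_pow₀ (show (1 : ℚ) ≤ 1 + (1 / 3) ^ (i + 1) by linarith) (n := 4)]
  have hle : ∀ i, fac x i ≤ fac (1 / 3) i := fun i => by
    have h := pow_le_pow_left₀ hx0.le hx (i + 1)
    have h' : (0 : ℚ) ≤ x ^ (i + 1) := by positivity
    rw [fac, fac]
    exact div_le_div₀ (by positivity) (pow_le_pow_left₀ (by linarith) (by linarith) 4) (hpos i) (by linarith)
  have hnn : ∀ i, 0 ≤ fac x i := fun i => by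
    have : x ^ (i + 1) < 1 := pow_lt_one₀ hx0.le (by linarith) (show i + 1 ≠ 0 by omega)
    exact div_nonneg (by positivity) (by linarith)
  refine le_trans (Finset.prod_le_prod (fun i _ => hnn i) fun i _ => hle i) ?_
  have hmono : ∏ i ∈ Finset.range N, fac (1 / 3) i ≤ ∏ i ∈ Finset.range (5 + N), fac (1 / 3) i :=
    Finset.prod_le_prod_of_subset_of_one_le (Finset.range_mono (by omega))
      (fun i _ => le_trans zero_le_one (hge i)) fun i _ _ => hge i
  refine hmono.trans ?_
  rw [Finset.prod_range_add]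
  have head : (∏ i ∈ Finset.range 5, fac (1 / 3) i) * (1 / (1 - 9 * (1 / 729 : ℚ))) ≤ 54 / 5 := by
    norm_num [Finset.prod_range_succ, fac]
  have tail : ∀ L, ∏ i ∈ Finset.range L, fac (1 / 3) (5 + i) ≤ 1 / (1 - 9 * (1 / 729 : ℚ) * (1 - (1 / 3) ^ L)) := by
    intro L
    induction L with
    | zero => simp
    | succ L ih =>
      rw [Finset.prod_range_succ]
      set w : ℚ := (1 / 3) ^ L with hw
      have hw0 : 0 < w := by positivity
      have hw1 : w ≤ 1 := pow_le_one₀ (by norm_num) (by norm_num)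
      have hu : fac (1 / 3) (5 + L) ≤ 1 / (1 - 6 * (1 / 729 * w)) := by
        rw [fac, show (1 / 3 : ℚ) ^ (5 + L + 1) = 1 / 729 * w by
          rw [show 5 + L + 1 = 6 + L by omega, pow_add]; norm_num [hw]]
        set u : ℚ := 1 / 729 * w
        have hu0 : 0 ≤ u := by positivity
        have hu1 : u ≤ 1 / 729 := by simp only [u]; linarith
        have p2 : u * u ≤ 1 / 729 * u := mul_le_mul_of_nonneg_right hu1 hu0
        have q4 : (1 + u) ^ 4 ≤ 1 + 5 * u := by
          have a1 : u ^ 3 ≤ u * u := by nlinarith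
          have a2 : u ^ 4 ≤ u * u := by nlinarith
          nlinarith
        rw [div_le_div_iff₀ (by linarith) (by linarith), one_mul]
        nlinarith [mul_le_mul_of_nonneg_right q4 (show (0 : ℚ) ≤ 1 - 6 * u by linarith)]
      have hd : 0 < 1 - 9 * (1 / 729 : ℚ) * (1 - w) := by linarith
      refine le_trans (mul_le_mul ih hu (le_trans zero_le_one (hge _)) (one_div_pos.2 hd).le) ?_
      rw [div_mul_div_comm, one_mul, pow_succ, ← hw]
      refine one_div_le_one_div_of_le (by nlinarith) ?_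
      nlinarith
  have hp0 : ∀ L, 0 ≤ ∏ i ∈ Finset.range L, fac (1 / 3) i :=
    fun L => Finset.prod_nonneg fun i _ => le_trans zero_le_one (hge i)
  refine le_trans (mul_le_mul_of_nonneg_left ((tail N).trans (one_div_le_one_div_of_le (by norm_num) ?_)) (hp0 5)) head
  have : (0 : ℚ) ≤ (1 / 3) ^ N := by positivity
  linarith

theorem prod_ent_le (M : ℕ) {x : ℚ} (hx0 : 0 < x) (hx : x ≤ 1 / 3) :
    ∏ k ∈ Finset.range M, ent x (k + 2) ≤ 54 / 5 := by
  have hlt : ∀ i : ℕ, x ^ (i + 1) < 1 := fun i => pow_lt_one₀ hx0.le (by linarith) (Nat.succ_ne_zero i)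
  refine le_trans ?_ (prod_fac_le M hx0 hx)
  simp only [ent, fac, Finset.prod_div_distrib, show ∀ k, k + 2 - 1 = k + 1 from fun k => rfl]
  refine div_le_div_of_nonneg_right ?_ (Finset.prod_nonneg fun i _ => by linarith [hlt i])
  rw [← Finset.prod_filter]
  rw [← Finset.prod_image (f := fun i => (1 + x ^ (i + 1)) ^ 4) (g := fun k => k / 2) (s :=
    (Finset.range M).filter fun k => Even (k + 2)) ?_ |>.trans (Finset.prod_congr rfl fun k _ => by
      rw [show (k + 2) / 2 = k / 2 + 1 by omega])]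
  · refine Finset.prod_le_prod_of_subset_of_one_le ?_ (fun i _ => by positivity)
      fun i _ _ => one_le_pow₀ (le_add_of_nonneg_right (by positivity))
    intro i hi
    simp only [Finset.mem_image, Finset.mem_filter, Finset.mem_range] at hi ⊢
    omega
  · intro k hk k' hk' h
    simp only [Finset.coe_filter, Set.mem_setOf_eq, Finset.mem_range, Nat.even_iff] at hk hk'
    simp only at h
    omega

include h2 in
/-- The weighted number of tuples of weight `2m`. -/
theorem sum_tuples_le {m : ℕ} (T : Finset (Tup F (m + m) 1 (m + m)))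
    (hT : ∀ g ∈ T, ∀ k : Fin (m + m), Adm (1 + k.val) (g.1 k).1) :
    5 * ∑ g ∈ T, ∏ k : Fin (m + m), wt (1 + k.val) (g.1 k).1 ≤ 54 * Fintype.card F ^ m := by
  set q := Fintype.card F with hqdef
  have hq : 3 ≤ q := by
    by_contra hc
    have h1 : 1 < q := Fintype.one_lt_card
    have h2' : Fintype.card F = 2 := by omega
    have hz : ((Fintype.card F : ℕ) : F) = 0 := Nat.cast_card_eq_zero F
    rw [h2'] at hz
    exact h2 (by exact_mod_cast hz)
  rcases Nat.eq_zero_or_pos m with rfl | hm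
  · have hc : T.card ≤ 1 := Finset.card_le_one.2 fun a _ b _ => Subtype.ext (funext fun i => i.elim0)
    have h1 := Finset.sum_le_card_nsmul T (fun g => ∏ k : Fin (0 + 0), wt (1 + k.val) (g.1 k).1) 1
      (fun g _ => le_of_eq (Finset.prod_eq_one fun k _ => k.elim0))
    rw [smul_eq_mul, mul_one] at h1
    simp only [pow_zero, mul_one]
    omega
  set x : ℚ := 1 / q with hxdef
  have hqQ : (3 : ℚ) ≤ q := by exact_mod_cast hq
  have hx0 : 0 < x := by positivity
  have hx3 : x ≤ 1 / 3 := one_div_le_one_div_of_le (by norm_num) hqQ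
  have hqx : (Fintype.card F : ℚ) * x = 1 := by rw [hxdef, ← hqdef]; field_simp
  obtain ⟨M, hM⟩ : ∃ M, m + m = M + 1 := ⟨m + m - 1, by omega⟩
  let z : Fin (m + m) := ⟨0, by omega⟩
  let sc : Fin M → Fin (m + m) := fun k => ⟨k.val + 1, by omega⟩
  let rest : Tup F (m + m) 1 (m + m) → (Fin M → MonicNZ F) := fun g k => g.1 (sc k)
  let e : ℕ → MonicNZ F → ℕ := fun j g => j * g.1.natDegree / 2
  let Φ : (Fin M → MonicNZ F) → ℚ := fun r => ∏ k : Fin M, (wt (k.val + 2) (r k).1 : ℚ) * x ^ e (k.val + 2) (r k)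
  have hsplit : ∀ (f : Fin (m + m) → ℕ), ∑ k, f k = f z + ∑ k : Fin M, f (sc k) := fun f => by
    rw [← (finCongr hM.symm).sum_comp, Fin.sum_univ_succ]; rfl
  have hsplitp : ∀ (f : Fin (m + m) → ℕ), ∏ k, f k = f z * ∏ k : Fin M, f (sc k) := fun f => by
    rw [← (finCongr hM.symm).prod_comp, Fin.prod_univ_succ]; rfl
  have hwt : ∀ g : Tup F (m + m) 1 (m + m),
      ∏ k : Fin (m + m), wt (1 + k.val) (g.1 k).1 = ∏ k : Fin M, wt (k.val + 2) (rest g k).1 := fun g => by
    rw [hsplitp, show wt (1 + z.val) (g.1 z).1 = 1 by simp [wt, z], one_mul]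
    exact Finset.prod_congr rfl fun k _ => by
      simp only [sc, rest, show 1 + (k.val + 1) = k.val + 2 by omega]
  have hexp : ∀ g ∈ T, ∀ k : Fin M, 2 * e (k.val + 2) (rest g k) = (k.val + 2) * (rest g k).1.natDegree := by
    intro g hg k
    have h := hT g hg (sc k)
    have hev : Even ((k.val + 2) * (rest g k).1.natDegree) := by
      rcases Nat.even_or_odd (k.val + 2) with hp | hp
      · exact hp.mul_right _
      · refine Even.mul_left ?_ _
        exact even_natDegree_of_adm h2 (j := 1 + (sc k).val) (by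
          simpa [sc, show 1 + (k.val + 1) = k.val + 2 by omega] using hp) _ h
    obtain ⟨c, hc⟩ := hev
    simp only [e]; omega
  have hz0 : ∀ g ∈ T, ∃ Q : F[X], Q.Monic ∧ symmetrize Q.natDegree Q = (g.1 z).1 ∧
      Q.natDegree + ∑ k : Fin M, e (k.val + 2) (rest g k) = m := by
    intro g hg
    have h := hT g hg z
    obtain ⟨a, b, Q, hQm, hQ2, hQn2, heq, hd, ha, hb⟩ := exists_dec_sym h2 (g.1 z) h.1
    obtain ⟨α, hα⟩ := (h.2 (by simp [z])).1
    obtain ⟨β, hβ⟩ := (h.2 (by simp [z])).2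
    rw [← ha] at hα
    rw [← hb] at hβ
    -- the whole entry is a symmetrisation
    have hco : ∀ j ≤ (g.1 z).1.natDegree,
        (g.1 z).1.coeff ((g.1 z).1.natDegree - j) = (g.1 z).1.eval 0 * (g.1 z).1.coeff j := fun j hj => by
      have e1 := coeff_rdual (g := (g.1 z).1) j hj
      rw [h.1] at e1
      rw [e1, ← mul_assoc, mul_inv_cancel₀ (g.1 z).2.2, one_mul]
    have hsym0 : (symmetrize Q.natDegree Q).eval 0 = 1 := by
      rw [symmetrize, eval_finset_sum, Finset.sum_eq_single Q.natDegree]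
      · simp [hQm.coeff_natDegree]
      · intro j hj hne
        have : Q.natDegree - j ≠ 0 := by have := Finset.mem_range.1 hj; omega
        simp [zero_pow this]
      · intro hn; exact absurd (Finset.self_mem_range_succ _) hn
    have h01 : (g.1 z).1.eval 0 = 1 := by
      rw [heq, eval_mul, eval_mul, hsym0, hα, hβ]
      simp [← two_mul, pow_mul]
    have hdd : (g.1 z).1.natDegree = 2 * (α + β + Q.natDegree) := by omega
    obtain ⟨R, hRm, hRd, hRs⟩ := exists_symmetrize (g.1 z).1 (g.1 z).2.1 hdd fun j hj => by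
      have h1 := hco j (hdd ▸ hj)
      rwa [hdd, h01, one_mul] at h1
    refine ⟨R, hRm, by rw [hRd]; exact hRs, ?_⟩
    have hs := g.2
    rw [hsplit (fun i => (1 + i.val) * (g.1 i).1.natDegree)] at hs
    have hsum : ∑ k : Fin M, (1 + (sc k).val) * (g.1 (sc k)).1.natDegree = 2 * ∑ k : Fin M, e (k.val + 2) (rest g k) := by
      rw [Finset.mul_sum]
      refine Finset.sum_congr rfl fun k _ => ?_
      rw [hexp g hg k]
      simp only [sc, rest, show 1 + (k.val + 1) = k.val + 2 by omega]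
    rw [hsum] at hs
    simp only [z, add_zero, one_mul] at hs
    have hdd' : (g.1 z).1.natDegree = 2 * R.natDegree := by rw [hRd]; exact hdd
    simp only [z] at hdd'
    omega
  have hle : (∑ g ∈ T, ∏ k : Fin (m + m), wt (1 + k.val) (g.1 k).1 : ℕ) ≤ (q : ℚ) ^ m * (54 / 5) := by
    have hmaps : ∀ g ∈ T, rest g ∈ Fintype.piFinset fun k : Fin M => entries (F := F) (k.val + 2) (m + m) := by
      intro g hg
      refine Fintype.mem_piFinset.2 fun k => mem_entries.2 ⟨?_, ?_⟩
      · have := hT g hg (sc k)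
        simpa [sc, rest, show 1 + (k.val + 1) = k.val + 2 by omega] using this
      · have h := Finset.single_le_sum (f := fun i : Fin (m + m) => (1 + i.val) * (g.1 i).1.natDegree)
          (fun _ _ => Nat.zero_le _) (Finset.mem_univ (sc k))
        rw [g.2] at h
        exact le_trans (Nat.le_mul_of_pos_left _ (by omega)) h
    push_cast
    rw [← Finset.sum_fiberwise_of_maps_to hmaps]
    refine le_trans (Finset.sum_le_sum (g := fun r => (q : ℚ) ^ m * Φ r) fun r _ => ?_) ?_
    · rcases (T.filter fun g => rest g = r).eq_empty_or_nonempty with h | ⟨g₀, hg₀⟩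
      · rw [h, Finset.sum_empty]
        exact mul_nonneg (by positivity) (Finset.prod_nonneg fun k _ => by positivity)
      have hcard : (T.filter fun g => rest g = r).card ≤ q ^ (m - ∑ k : Fin M, e (k.val + 2) (r k)) := by
        rw [hqdef, ← card_monics (F := F)]
        choose Q hQm hQs hQd using hz0
        refine Finset.card_le_card_of_injOn (fun g => if hg : g ∈ T then Q g hg else 0) (fun g hg => ?_) ?_
        · obtain ⟨hgT, hgr⟩ := Finset.mem_filter.1 hg
          simp only [dif_pos hgT]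
          exact mem_monics.2 ⟨hQm g hgT, by have := hQd g hgT; rw [hgr] at this; omega⟩
        · intro g hg g' hg' h
          obtain ⟨hgT, hgr⟩ := Finset.mem_filter.1 hg
          obtain ⟨hgT', hgr'⟩ := Finset.mem_filter.1 hg'
          simp only [dif_pos hgT, dif_pos hgT'] at h
          refine Subtype.ext (funext fun i => ?_)
          by_cases hi : i = z
          · subst hi
            exact Subtype.ext (by rw [← hQs g hgT, ← hQs g' hgT', h])
          · have hi' : i.val ≠ 0 := fun h0 => hi (Fin.ext h0)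
            have := congrFun (hgr.trans hgr'.symm) ⟨i.val - 1, by omega⟩
            have e3 : sc ⟨i.val - 1, by omega⟩ = i := Fin.ext (by simp only [sc]; omega)
            simpa [rest, e3] using this
      obtain ⟨hg0, rfl⟩ := Finset.mem_filter.1 hg₀
      obtain ⟨Q₀, -, -, hQ₀⟩ := hz0 g₀ hg0
      calc ∑ g ∈ T.filter (fun g => rest g = rest g₀), (∏ k : Fin (m + m), (wt (1 + k.val) (g.1 k).1 : ℚ))
          = ∑ g ∈ T.filter (fun g => rest g = rest g₀), ∏ k : Fin M, (wt (k.val + 2) (rest g₀ k).1 : ℚ) := by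
            refine Finset.sum_congr rfl fun g hg => ?_
            rw [← Nat.cast_prod, hwt g, (Finset.mem_filter.1 hg).2, Nat.cast_prod]
        _ ≤ (q : ℚ) ^ (m - ∑ k : Fin M, e (k.val + 2) (rest g₀ k)) *
            ∏ k : Fin M, (wt (k.val + 2) (rest g₀ k).1 : ℚ) := by
            rw [Finset.sum_const, nsmul_eq_mul]
            exact mul_le_mul_of_nonneg_right (by exact_mod_cast hcard) (Finset.prod_nonneg fun k _ => by positivity)
        _ = _ := by
            set E := ∑ k : Fin M, e (k.val + 2) (rest g₀ k)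
            simp only [Φ, Finset.prod_mul_distrib, Finset.prod_pow_eq_pow_sum]
            have he : (q : ℚ) ^ (m - E) = (q : ℚ) ^ m * x ^ E := by
              rw [show m = (m - E) + E by omega, pow_add, Nat.add_sub_cancel, mul_assoc, ← mul_pow, hxdef,
                mul_one_div_cancel (by positivity), one_pow, mul_one]
            rw [he]; ring
    · rw [← Finset.mul_sum]
      refine mul_le_mul_of_nonneg_left ?_ (by positivity)
      rw [show (∑ r ∈ Fintype.piFinset fun k : Fin M => entries (F := F) (k.val + 2) (m + m), Φ r) =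
        ∏ k : Fin M, ∑ g ∈ entries (F := F) (k.val + 2) (m + m), (wt (k.val + 2) g.1 : ℚ) * x ^ e (k.val + 2) g from
          (Finset.prod_univ_sum (fun k : Fin M => entries (F := F) (k.val + 2) (m + m))
            (fun k g => (wt (k.val + 2) g.1 : ℚ) * x ^ e (k.val + 2) g)).symm]
      refine le_trans (Finset.prod_le_prod (fun k _ => Finset.sum_nonneg fun g _ => by positivity)
        fun k _ => sum_entries_le h2 (show 2 ≤ k.val + 2 by omega) (m + m) hx0 hqx (by linarith)) ?_
      rw [Fin.prod_univ_eq_prod_range fun k => ent x (k + 2)]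
      exact prod_ent_le M hx0 hx3
  have h5 : ((5 * ∑ g ∈ T, ∏ k : Fin (m + m), wt (1 + k.val) (g.1 k).1 : ℕ) : ℚ) ≤ ((54 * q ^ m : ℕ) : ℚ) := by
    push_cast at hle ⊢
    linarith
  exact_mod_cast h5

end CfsgLib.Char.SpClass
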