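import Mathlib
import Cfsg.Agent.Lib.Char.SpClass.Count
import Cfsg.Agent.Lib.IsometryConj.SympCharpoly

/-!
# The class number of the symplectic group in odd characteristic

A class of `Sp_{2m}(q)` is decided by its tuple and the codes at `±1`; so there are at most `10.8 q^m` of them.
-/

set_option autoImplicit false

open scoped Classical

namespace CfsgLib.Char.SpClass

open Polynomial Matrix CfsgLib.IsometryConj CfsgLib.GLClass

variable {F : Type*} [Field F] [Fintype F] {m : ℕ}

local notation "Mat" => Matrix (Fin m ⊕ Fin m) (Fin m ⊕ Fin m) F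

theorem count_normalizedFactors_X_sub_C {g : F[X]} (hg : g ≠ 0) (c : F) :
    Multiset.count (X - Polynomial.C c) (UniqueFactorizationMonoid.normalizedFactors g) = g.rootMultiplicity c := by
  obtain ⟨h, hh, hn⟩ := g.exists_eq_pow_rootMultiplicity_mul_and_not_dvd hg c
  refine UniqueFactorizationMonoid.count_normalizedFactors_eq (irreducible_X_sub_C c)
    ((monic_X_sub_C c).normalize_eq_self) (pow_rootMultiplicity_dvd g c) fun hd => ?_
  conv at hd => arg 2; rw [hh]
  rw [pow_succ] at hd
  exact hn ((mul_dvd_mul_iff_left (pow_ne_zero _ (X_sub_C_ne_zero c))).1 hd)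

/-- The multiplicity of `±1` in the entries of the tuple is the number of blocks. -/
theorem rootMultiplicity_classTup (h2 : (2 : F) ≠ 0) {l : F} (hl : l * l = 1)
    (x : ↥(Matrix.symplecticGroup (Fin m) F)) (k : Fin (m + m)) :
    ((classTup (toFin m F x)).1 k).1.rootMultiplicity l = blk (eC l (x : Mat)) (k.val + 1) := by
  rw [← count_eq_blk h2 hl, Nat.add_comm k.val 1, count_eq_classTup,
    count_normalizedFactors_X_sub_C ((classTup (toFin m F x)).1 k).2.1.ne_zero]

theorem adm_classTup (h2 : (2 : F) ≠ 0) (x : ↥(Matrix.symplecticGroup (Fin m) F)) (k : Fin (m + m)) :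
    Adm (1 + k.val) ((classTup (toFin m F x)).1 k).1 := by
  refine ⟨rdual_classTup x k, fun hodd => ?_⟩
  have key : ∀ l : F, l * l = 1 → Even (((classTup (toFin m F x)).1 k).1.rootMultiplicity l) := by
    intro l hl
    rw [rootMultiplicity_classTup h2 hl x k]
    have hA := (sympAdjoint_mem_iff (x : Mat)).1 x.2
    refine even_blk h2 (ePair h2 hl hA 1 (Adjoint.st_one _) isUnit_one (Commute.one_left _)) k.val ?_
    have he : Even k.val := by
      rcases hodd with ⟨c, hc⟩
      exact ⟨c, by omega⟩
    rw [he.neg_one_pow, mul_one]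
  exact ⟨key 1 (one_mul 1), key (-1) (by ring)⟩

/-- Similar symplectic matrices with equal codes are conjugate. -/
theorem isConj_of_corners (h2 : (2 : F) ≠ 0) (x y : ↥(Matrix.symplecticGroup (Fin m) F)) (p : (Mat)ˣ)
    (hp : (p : Mat) * (x : Mat) = (y : Mat) * p)
    (hcor : ∀ l : F, l * l = 1 → ∃ h : Mat, h * eid l (x : Mat) = h ∧ eid l (x : Mat) * h = h ∧
      Commute h (x : Mat) ∧ (sympAdjoint m F).st h * h = (sympAdjoint m F).st (p : Mat) * p * eid l (x : Mat)) :
    IsConj x y := by
  set J := sympAdjoint m F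
  set a : Mat := (x : Mat) with ha
  have hstA : J.st a * a = 1 := (sympAdjoint_mem_iff _).1 x.2
  have hstB : J.st (y : Mat) * (y : Mat) = 1 := (sympAdjoint_mem_iff _).1 y.2
  let uA : (Mat)ˣ := ⟨a, J.st a, mul_eq_one_comm.1 hstA, hstA⟩
  let uB : (Mat)ˣ := ⟨(y : Mat), J.st (y : Mat), mul_eq_one_comm.1 hstB, hstB⟩
  obtain ⟨hp', hp1, hp2, hpc, hp3⟩ := hcor 1 (one_mul 1)
  obtain ⟨hm', hm1, hm2, hmc, hm3⟩ := hcor (-1) (by ring)
  set ep := eid (1 : F) a with hep
  set em := eid (-1 : F) a with hem
  have hepep : ep * ep = ep := eid_idem _ _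
  have hemem : em * em = em := eid_idem _ _
  have hstep : J.st ep = ep := st_eid (one_mul 1) hstA
  have hstem : J.st em = em := st_eid (by ring) hstA
  have hpm : ep * em = 0 := eid_mul_eid_neg h2 one_ne_zero a
  have hmp : em * ep = 0 := by
    rw [← hpm]
    exact (commute_eid (l := (1 : F)) (commute_eid (l := (-1 : F)) (Commute.refl a)).symm).eq
  set e := ep + em with he
  have hec : ∀ z : Mat, Commute z a → Commute z e := fun z hz => (commute_eid hz).add_right (commute_eid hz)
  have hee : e * e = e := by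
    rw [he, add_mul, mul_add, mul_add, hepep, hemem, hpm, hmp, add_zero, zero_add]
  have hste : J.st e = e := by rw [he, J.st_add, hstep, hstem]
  set E := bigExp m F with hE
  have hE0 : 0 < E := bigExp_pos
  set D := a - (1 : F) • (1 : Mat) with hD
  set D' := a - (-1 : F) • (1 : Mat) with hD'
  set wp := D ^ (E - 1) with hwp
  set wm := D' ^ (E - 1) with hwm
  have haD : Commute a D := (Commute.refl a).sub_right ((Commute.one_right a).smul_right _)
  have haD' : Commute a D' := (Commute.refl a).sub_right ((Commute.one_right a).smul_right _)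
  have hDD : Commute D D' := haD'.sub_left ((Commute.one_left _).smul_left _)
  have hprod : (D * wp) * (D' * wm) = 1 - e := by
    rw [hwp, hwm, ← pow_succ', ← pow_succ', Nat.sub_add_cancel hE0, hD, hD', ← one_sub_eid, ← one_sub_eid,
      ← hep, ← hem, sub_mul, one_mul, mul_sub, mul_one, hpm, he]
    abel
  have hθu : IsUnit (a - J.st a + e) := by
    set z := a * wp * wm with hz
    have hzA : Commute z a :=
      ((Commute.refl a).mul_left (haD.pow_right _).symm).mul_left (haD'.pow_right _).symm
    have h1 : (a - J.st a) * z = 1 - e := by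
      rw [hz, ← hprod]
      calc (a - J.st a) * (a * wp * wm) = (a * a - J.st a * a) * wp * wm := by
            rw [sub_mul]; simp only [mul_assoc, sub_mul, mul_sub]
        _ = D * D' * wp * wm := by
            rw [hstA, hD, hD']
            congr 2
            simp only [one_smul, neg_smul, sub_neg_eq_add]
            noncomm_ring
        _ = _ := by
            have h2' : D' * wp = wp * D' := (hDD.symm.pow_right _).eq
            simp only [mul_assoc]
            rw [← mul_assoc D' wp wm, h2', mul_assoc]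
    have h7 : (a - J.st a + e) * (z * (1 - e) + e) = 1 + (a - J.st a) * e := by
      have h5 : (1 - e) * (1 - e) = 1 - e := by
        rw [sub_mul, one_mul, mul_sub, mul_one, hee, sub_self, sub_zero]
      have h6 : e * (1 - e) = 0 := by rw [mul_sub, mul_one, hee, sub_self]
      have hze : Commute z e := hec z hzA
      calc (a - J.st a + e) * (z * (1 - e) + e)
          = (a - J.st a) * z * (1 - e) + (a - J.st a) * e + (e * z) * (1 - e) + e * e := by
            simp only [mul_add, add_mul, mul_assoc]; abel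
        _ = (1 - e) + (a - J.st a) * e + z * (e * (1 - e)) + e := by rw [h1, h5, ← hze.eq, mul_assoc z, hee]
        _ = 1 + (a - J.st a) * e := by rw [h6, mul_zero]; abel
    have hnil : IsNilpotent ((a - J.st a) * e) := by
      have hce : Commute (a - J.st a) e := by
        have hea : Commute a e := hec a (Commute.refl a)
        have hsa : Commute (J.st a) a := hstA.trans (mul_eq_one_comm.1 hstA).symm
        exact hea.sub_left (hec _ hsa)
      have e1 : a - J.st a = J.st a * (D * D') := by
        rw [hD, hD']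
        simp only [one_smul, neg_smul, sub_neg_eq_add]
        rw [show (a - 1) * (a + 1) = a * a - 1 by noncomm_ring, mul_sub, mul_one, ← mul_assoc, hstA, one_mul]
      have hsa : Commute (J.st a) a := hstA.trans (mul_eq_one_comm.1 hstA).symm
      refine ⟨E, ?_⟩
      rw [hce.mul_pow, e1, ((hsa.sub_right ((Commute.one_right _).smul_right _)).mul_right
        (hsa.sub_right ((Commute.one_right _).smul_right _))).mul_pow, hDD.mul_pow,
        show e ^ E = e by rw [← Nat.sub_add_cancel hE0]; exact IsIdempotentElem.pow_succ_eq _ hee,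
        mul_assoc, mul_assoc, he, mul_add]
      have z1 : D' ^ E * em = 0 := pow_mul_eid (-1 : F) a
      have z2 : D ^ E * ep = 0 := pow_mul_eid (1 : F) a
      rw [z1, mul_add, mul_zero, add_zero, ← mul_assoc (D ^ E), (hDD.pow_pow E E).eq, mul_assoc, z2, mul_zero, mul_zero]
    obtain ⟨v, hv⟩ := hnil.isUnit_one_add
    refine isUnit_iff_exists.2 ⟨(z * (1 - e) + e) * (v⁻¹ : (Mat)ˣ), ?_, ?_⟩
    · rw [← mul_assoc, h7, ← hv, Units.mul_inv]
    · refine mul_eq_one_comm.1 ?_
      rw [← mul_assoc, h7, ← hv, Units.mul_inv]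
  have h₀r : (hp' + hm') * e = hp' + hm' := by
    have x1 : hp' * em = 0 := by rw [← hp1, mul_assoc, hpm, mul_zero]
    have x2 : hm' * ep = 0 := by rw [← hm1, mul_assoc, hmp, mul_zero]
    rw [he, add_mul, mul_add, mul_add, hp1, hm1, x1, x2, add_zero, zero_add]
  have h₀S : J.st (hp' + hm') * (hp' + hm') = J.st (p : Mat) * p * e := by
    have x1 : J.st hp' * hm' = 0 := by
      calc J.st hp' * hm' = J.st (ep * hp') * (em * hm') := by rw [hp2, hm2]
        _ = J.st hp' * (ep * em) * hm' := by rw [J.st_mul, hstep]; simp only [mul_assoc]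
        _ = 0 := by rw [hpm, mul_zero, zero_mul]
    have x2 : J.st hm' * hp' = 0 := by
      calc J.st hm' * hp' = J.st (em * hm') * (ep * hp') := by rw [hp2, hm2]
        _ = J.st hm' * (em * ep) * hp' := by rw [J.st_mul, hstem]; simp only [mul_assoc]
        _ = 0 := by rw [hmp, mul_zero, zero_mul]
    rw [J.st_add, add_mul, mul_add, mul_add, x1, x2, hp3, hm3, add_zero, zero_add, he, mul_add]
  obtain ⟨U, hU, hUA⟩ := exists_isometry_conj_corner J uA uB p hstA hstB hp e hee hste hec hθu
    (hp' + hm') h₀r (hpc.add_left hmc) h₀S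
  exact ⟨toUnits (⟨(U : Mat), (sympAdjoint_mem_iff _).2 hU⟩ : Matrix.symplecticGroup (Fin m) F),
    Subtype.ext hUA⟩

/-- The classes of the symplectic group. -/
theorem card_sp_classes_le (h2 : (2 : F) ≠ 0) :
    5 * Nat.card (ConjClasses ↥(Matrix.symplecticGroup (Fin m) F)) ≤ 54 * Fintype.card F ^ m := by
  have hl : (-1 : F) * -1 = 1 := by ring
  obtain ⟨cp, hcp, hcp'⟩ := exists_corner_code (m := m) h2 (one_mul (1 : F))
  obtain ⟨cm', hcm, hcm'⟩ := exists_corner_code (m := m) h2 hl
  haveI : Fintype (ConjClasses ↥(Matrix.symplecticGroup (Fin m) F)) := Fintype.ofFinite _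
  choose rep hrep using (ConjClasses.mk_surjective :
    Function.Surjective (ConjClasses.mk (α := ↥(Matrix.symplecticGroup (Fin m) F))))
  let sA : ↥(Matrix.symplecticGroup (Fin m) F) → {A : Mat // (sympAdjoint m F).st A * A = 1} :=
    fun x => ⟨(x : Mat), (sympAdjoint_mem_iff _).1 x.2⟩
  let toS : Finset ℕ → Finset (Fin (m + m)) := fun s => Finset.univ.filter fun k => k.val + 1 ∈ s
  let Φ : ConjClasses ↥(Matrix.symplecticGroup (Fin m) F) →
      Tup F (m + m) 1 (m + m) × Finset (Fin (m + m)) × Finset (Fin (m + m)) := fun C =>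
    (classTup (toFin m F (rep C)), toS (cp (sA (rep C))), toS (cm' (sA (rep C))))
  have hrec : ∀ s s' : Finset ℕ, (∀ j ∈ s, 1 ≤ j ∧ j ≤ m + m) → (∀ j ∈ s', 1 ≤ j ∧ j ≤ m + m) → toS s = toS s' → s = s' := by
    intro s s' hs hs' h
    ext j
    constructor <;> intro hj
    · obtain ⟨k, rfl⟩ : ∃ k, j = k + 1 := ⟨j - 1, by have := hs j hj; omega⟩
      have : (⟨k, by have := (hs _ hj).2; omega⟩ : Fin (m + m)) ∈ toS s := Finset.mem_filter.2 ⟨Finset.mem_univ _, hj⟩
      rw [h] at this
      exact (Finset.mem_filter.1 this).2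
    · obtain ⟨k, rfl⟩ : ∃ k, j = k + 1 := ⟨j - 1, by have := hs' j hj; omega⟩
      have : (⟨k, by have := (hs' _ hj).2; omega⟩ : Fin (m + m)) ∈ toS s' := Finset.mem_filter.2 ⟨Finset.mem_univ _, hj⟩
      rw [← h] at this
      exact (Finset.mem_filter.1 this).2
  have hbd : ∀ (l : F) (c : {A : Mat // (sympAdjoint m F).st A * A = 1} → Finset ℕ),
      (∀ A, c A ⊆ (Finset.range (2 * m + 1)).filter fun j => 1 ≤ j ∧ Even j ∧ 0 < blk (eC l A.1) j) →
      ∀ A, ∀ j ∈ c A, 1 ≤ j ∧ j ≤ m + m := fun l c hc A j hj => by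
    obtain ⟨h1, h2, -⟩ := Finset.mem_filter.1 (hc A hj)
    rw [Finset.mem_range] at h1
    omega
  have hinj : Function.Injective Φ := by
    intro C D hCD
    simp only [Φ, Prod.mk.injEq] at hCD
    obtain ⟨ht, hp, hm'⟩ := hCD
    have hc := isConj_of_classTup_eq ht
    obtain ⟨u, hu⟩ := hc
    let p : (Mat)ˣ := Units.map (Matrix.reindexAlgEquiv F F finSumFinEquiv.symm).toMonoidHom (u : GL (Fin (m + m)) F)
    have hrr : ∀ z : ↥(Matrix.symplecticGroup (Fin m) F), (Matrix.reindexAlgEquiv F F finSumFinEquiv.symm)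
        ((toFin m F z : GL (Fin (m + m)) F) : Matrix (Fin (m + m)) (Fin (m + m)) F) = (z : Mat) := fun z => by
      rw [toFin_val]; ext i j; simp
    have hpe : (p : Mat) * (rep C : Mat) = (rep D : Mat) * p := by
      have h := congrArg (fun z : GL (Fin (m + m)) F => (Matrix.reindexAlgEquiv F F finSumFinEquiv.symm)
        (z : Matrix (Fin (m + m)) (Fin (m + m)) F)) hu.eq
      simp only [Units.val_mul, map_mul, hrr] at h
      exact h
    rw [← hrep C, ← hrep D]
    refine ConjClasses.mk_eq_mk_iff_isConj.2 (isConj_of_corners h2 _ _ p hpe fun l hl' => ?_)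
    rcases mul_self_eq_one_iff.1 hl' with rfl | rfl
    · exact hcp' (sA (rep C)) (sA (rep D)) p hpe (hrec _ _ (hbd 1 cp hcp _) (hbd 1 cp hcp _) hp)
    · exact hcm' (sA (rep C)) (sA (rep D)) p hpe (hrec _ _ (hbd (-1) cm' hcm _) (hbd (-1) cm' hcm _) hm')
  have hsub : ∀ (l : F) (hl : l * l = 1) (c : {A : Mat // (sympAdjoint m F).st A * A = 1} → Finset ℕ),
      (∀ A, c A ⊆ (Finset.range (2 * m + 1)).filter fun j => 1 ≤ j ∧ Even j ∧ 0 < blk (eC l A.1) j) →
      ∀ x, toS (c (sA x)) ∈ (Finset.univ.filter fun k : Fin (m + m) =>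
        Even (1 + k.val) ∧ ((classTup (toFin m F x)).1 k).1.eval l = 0).powerset := by
    intro l hl c hc x
    refine Finset.mem_powerset.2 fun k hk => ?_
    obtain ⟨-, -, h3, h4⟩ := Finset.mem_filter.1 (hc _ (Finset.mem_filter.1 hk).2)
    refine Finset.mem_filter.2 ⟨Finset.mem_univ _, by rwa [add_comm], ?_⟩
    rw [← rootMultiplicity_classTup h2 hl x k] at h4
    exact ((rootMultiplicity_pos ((classTup (toFin m F x)).1 k).2.1.ne_zero).1 h4)
  let T : Finset (Tup F (m + m) 1 (m + m)) := Finset.univ.image fun C => classTup (toFin m F (rep C))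
  let S : F → Tup F (m + m) 1 (m + m) → Finset (Finset (Fin (m + m))) := fun l g =>
    (Finset.univ.filter fun k : Fin (m + m) => Even (1 + k.val) ∧ (g.1 k).1.eval l = 0).powerset
  have hcard : Nat.card (ConjClasses ↥(Matrix.symplecticGroup (Fin m) F)) ≤
      ∑ g ∈ T, ∏ k : Fin (m + m), wt (1 + k.val) (g.1 k).1 := by
    rw [Nat.card_eq_fintype_card, ← Finset.card_univ, ← Finset.card_image_of_injective _ hinj]
    refine le_trans (Finset.card_le_card (t := (T.sigma fun g => S 1 g ×ˢ S (-1) g).image fun z => (z.1, z.2.1, z.2.2))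
      ?_) (le_trans Finset.card_image_le ?_)
    · intro z hz
      obtain ⟨C, -, rfl⟩ := Finset.mem_image.1 hz
      exact Finset.mem_image.2 ⟨⟨classTup (toFin m F (rep C)), toS (cp (sA (rep C))), toS (cm' (sA (rep C)))⟩,
        Finset.mem_sigma.2 ⟨Finset.mem_image_of_mem _ (Finset.mem_univ C),
          Finset.mem_product.2 ⟨hsub 1 (one_mul 1) cp hcp _, hsub (-1) hl cm' hcm _⟩⟩, rfl⟩
    · rw [Finset.card_sigma]
      refine le_of_eq (Finset.sum_congr rfl fun g _ => ?_)
      rw [Finset.card_product, Finset.card_powerset, Finset.card_powerset, ← Finset.prod_const, ← Finset.prod_const,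
        Finset.prod_filter, Finset.prod_filter, ← Finset.prod_mul_distrib]
      refine Finset.prod_congr rfl fun k _ => ?_
      unfold wt
      by_cases hk : Even (1 + k.val) <;> simp [hk]
  refine le_trans (Nat.mul_le_mul_left 5 hcard) (sum_tuples_le h2 T fun g hg k => ?_)
  obtain ⟨C, -, rfl⟩ := Finset.mem_image.1 hg
  exact adm_classTup h2 _ k

theorem le_card_sp_classes :
    Fintype.card F ^ m ≤ Nat.card (ConjClasses ↥(Matrix.symplecticGroup (Fin m) F)) := by
  obtain ⟨p, hp⟩ := CharP.exists F
  haveI : Fact p.Prime := ⟨CharP.char_is_prime F p⟩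
  rw [← card_sp_semisimple_classes (n := m) p]
  exact Nat.card_le_card_of_injective Subtype.val Subtype.val_injective

end CfsgLib.Char.SpClass
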