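import Mathlib
import Cfsg.Agent.Lib.Char.SpClass.Nilpotent

/-!
# Models of forms with a nilpotent skew map

For multiplicities `n j` (even for odd `j`) and a set of signs there is an alternating form with a skew nilpotent
map having `n j` blocks of size `j`; models with different signs are not isometric.
-/

set_option autoImplicit false

open scoped Classical

namespace CfsgLib.Char.SpClass

open Module
open scoped Matrix

variable {F : Type*} [Field F]

/-- The index set of the model. -/
abbrev MIdx (S : Finset ℕ) (n : ℕ → ℕ) : Type := Σ j : S, Fin j.1 × Fin (n j.1)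

variable {S : Finset ℕ} {n : ℕ → ℕ}

/-- The Gram matrix at a part size. -/
noncomputable def mGram (n : ℕ → ℕ) (δ : Finset ℕ) (ν : F) (j : ℕ) : Matrix (Fin (n j)) (Fin (n j)) F :=
  if Even j then Matrix.diagonal fun a => if a.val = 0 ∧ j ∈ δ then ν else 1
  else Matrix.of fun a b => if b.val = a.val + n j / 2 then 1 else if a.val = b.val + n j / 2 then -1 else 0

/-- The shift. -/
noncomputable def mShift (S : Finset ℕ) (n : ℕ → ℕ) (F : Type*) [Field F] : Module.End F (MIdx S n → F) where
  toFun v s := if s.2.1.val = 0 then 0 else v ⟨s.1, ⟨s.2.1.val - 1, by omega⟩, s.2.2⟩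
  map_add' u v := by ext s; simp only [Pi.add_apply]; split_ifs <;> simp
  map_smul' c v := by ext s; simp only [Pi.smul_apply, RingHom.id_apply]; split_ifs <;> simp

theorem mShift_pow (t : ℕ) : ∀ (v : MIdx S n → F) (s : MIdx S n), ((mShift S n F) ^ t) v s =
    if h : t ≤ s.2.1.val then v ⟨s.1, ⟨s.2.1.val - t, by omega⟩, s.2.2⟩ else 0 := by
  induction t with
  | zero => intro v s; simp
  | succ t ih =>
    intro v s
    rw [pow_succ, Module.End.mul_apply, ih]
    by_cases h : t + 1 ≤ s.2.1.val
    · rw [dif_pos (by omega), dif_pos h]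
      simp only [mShift, LinearMap.coe_mk, AddHom.coe_mk]
      rw [if_neg (by omega)]
      congr 2
    · rw [dif_neg h]
      split_ifs with h'
      · simp only [mShift, LinearMap.coe_mk, AddHom.coe_mk]
        rw [if_pos (by omega)]
      · rfl

/-- The form. -/
noncomputable def mForm (S : Finset ℕ) (n : ℕ → ℕ) (δ : Finset ℕ) (ν : F) : LinearMap.BilinForm F (MIdx S n → F) :=
  LinearMap.mk₂ F (fun u v => ∑ j : S, ∑ i : Fin j.1, ∑ a, ∑ b,
      (-1 : F) ^ (j.1 - 1 - i.val) * mGram n δ ν j.1 a b * (u ⟨j, i, a⟩ * v ⟨j, i.rev, b⟩))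
    (fun u u' v => by simp only [Pi.add_apply, add_mul, mul_add, Finset.sum_add_distrib])
    (fun c u v => by simp only [Pi.smul_apply, smul_eq_mul, Finset.mul_sum]; congr! 4; ring)
    (fun u v v' => by simp only [Pi.add_apply, mul_add, Finset.sum_add_distrib])
    (fun c u v => by simp only [Pi.smul_apply, smul_eq_mul, Finset.mul_sum]; congr! 4; ring)

variable {δ : Finset ℕ} {ν : F}

theorem mForm_apply (u v : MIdx S n → F) : mForm S n δ ν u v = ∑ j : S, ∑ i : Fin j.1, ∑ a, ∑ b,
    (-1 : F) ^ (j.1 - 1 - i.val) * mGram n δ ν j.1 a b * (u ⟨j, i, a⟩ * v ⟨j, i.rev, b⟩) := rfl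

theorem mGram_transpose (hn : ∀ j, Odd j → Even (n j)) (j : ℕ) (a b : Fin (n j)) :
    mGram n δ ν j b a = (if Even j then 1 else -1) * mGram n δ ν j a b := by
  unfold mGram
  split_ifs with h
  · rw [Matrix.diagonal_apply, Matrix.diagonal_apply, one_mul]
    by_cases hab : a = b
    · subst hab; rfl
    · rw [if_neg (Ne.symm hab), if_neg hab]
  · obtain ⟨c, hc⟩ := hn j (Nat.not_even_iff_odd.1 h)
    have := a.isLt
    simp only [Matrix.of_apply]
    split_ifs <;> first | omega | simp

theorem mGram_det_ne_zero (hn : ∀ j, Odd j → Even (n j)) (hν : ν ≠ 0) (j : ℕ) : (mGram n δ ν j).det ≠ 0 := by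
  unfold mGram
  split_ifs with h
  · rw [Matrix.det_diagonal]
    exact Finset.prod_ne_zero_iff.2 fun a _ => by split_ifs; exacts [hν, one_ne_zero]
  · obtain ⟨c, hc⟩ := hn j (Nat.not_even_iff_odd.1 h)
    intro hd
    obtain ⟨v, hv0, hv⟩ := Matrix.exists_mulVec_eq_zero_iff.2 hd
    refine hv0 (funext fun b => ?_)
    have hb := b.isLt
    rcases lt_or_ge b.val c with hbc | hbc
    · have h1 := congrFun hv ⟨b.val + c, by omega⟩
      simp only [Matrix.mulVec, dotProduct, Matrix.of_apply, Pi.zero_apply] at h1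
      rw [Finset.sum_eq_single b] at h1
      · rw [if_neg (by omega), if_pos (by omega), neg_one_mul, neg_eq_zero] at h1
        exact h1
      · intro a _ ha
        have := Fin.val_ne_of_ne ha
        rw [if_neg (by have := a.isLt; omega), if_neg (by omega), zero_mul]
      · exact fun h => absurd (Finset.mem_univ _) h
    · have h1 := congrFun hv ⟨b.val - c, by omega⟩
      simp only [Matrix.mulVec, dotProduct, Matrix.of_apply, Pi.zero_apply] at h1
      rw [Finset.sum_eq_single b] at h1
      · rw [if_pos (by omega), one_mul] at h1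
        exact h1
      · intro a _ ha
        have := Fin.val_ne_of_ne ha
        rw [if_neg (by omega), if_neg (by have := a.isLt; omega), zero_mul]
      · exact fun h => absurd (Finset.mem_univ _) h

/-- The model pair. -/
noncomputable def mPair (S : Finset ℕ) (hn : ∀ j, Odd j → Even (n j)) (δ : Finset ℕ) (hν : ν ≠ 0) :
    NilPair (-1 : F) (MIdx S n → F) where
  B := mForm S n δ ν
  C := mShift S n F
  flip u v := by
    rw [mForm_apply, mForm_apply, Finset.mul_sum]
    refine Finset.sum_congr rfl fun j _ => ?_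
    rw [Finset.mul_sum, ← Equiv.sum_comp Fin.revPerm]
    refine Finset.sum_congr rfl fun i _ => ?_
    rw [Finset.mul_sum, Finset.sum_comm]
    refine Finset.sum_congr rfl fun a _ => ?_
    rw [Finset.mul_sum]
    refine Finset.sum_congr rfl fun b _ => ?_
    simp only [Fin.revPerm_apply, Fin.rev_rev]
    rw [mGram_transpose hn j.1 a b]
    have hi := i.isLt
    have e : (-1 : F) ^ (j.1 - 1 - i.rev.val) * (if Even j.1 then 1 else -1) = -(-1) ^ (j.1 - 1 - i.val) := by
      rw [Fin.val_rev, show j.1 - 1 - (j.1 - (i.val + 1)) = i.val by omega]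
      have h1 : (-1 : F) ^ i.val * (-1) ^ (j.1 - 1 - i.val) = (-1) ^ (j.1 - 1) := by rw [← pow_add]; congr 1; omega
      have h3 : (-1 : F) ^ (j.1 - 1 - i.val) * (-1) ^ (j.1 - 1 - i.val) = 1 := by
        rw [← mul_pow]; simp
      split_ifs with hj
      · obtain ⟨c, hc⟩ := hj
        rw [show (-1 : F) ^ (j.1 - 1) = -1 from Odd.neg_one_pow ⟨c - 1, by omega⟩] at h1
        linear_combination (-1 : F) ^ (j.1 - 1 - i.val) * h1 - (-1 : F) ^ i.val * h3
      · obtain ⟨c, hc⟩ := Nat.not_even_iff_odd.1 hj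
        rw [show (-1 : F) ^ (j.1 - 1) = 1 from Even.neg_one_pow ⟨c, by omega⟩] at h1
        linear_combination -(-1 : F) ^ (j.1 - 1 - i.val) * h1 + (-1 : F) ^ i.val * h3
    linear_combination (mGram n δ ν j.1 a b * (v ⟨j, i.rev, b⟩ * u ⟨j, i, a⟩)) * e
  sep u hu := by
    funext s
    obtain ⟨j, i, a₀⟩ := s
    have h : ∀ b, ∑ a, mGram n δ ν j.1 a b * u ⟨j, i, a⟩ = 0 := fun b => by
      have h1 := hu (Pi.single ⟨j, i.rev, b⟩ 1)
      rw [mForm_apply, Finset.sum_eq_single j, Finset.sum_eq_single i] at h1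
      · have h3 : ∀ a, ∑ b', (-1 : F) ^ (j.1 - 1 - i.val) * mGram n δ ν j.1 a b' *
            (u ⟨j, i, a⟩ * (Pi.single (⟨j, i.rev, b⟩ : MIdx S n) (1 : F) : MIdx S n → F) ⟨j, i.rev, b'⟩) =
            (-1 : F) ^ (j.1 - 1 - i.val) * (mGram n δ ν j.1 a b * u ⟨j, i, a⟩) := fun a => by
          rw [Finset.sum_eq_single b]
          · rw [Pi.single_eq_same]; ring
          · intro b' _ hb
            rw [Pi.single_eq_of_ne (by simp [hb])]; simp
          · exact fun h => absurd (Finset.mem_univ _) h
        rw [Finset.sum_congr rfl fun a _ => h3 a, ← Finset.mul_sum] at h1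
        exact (mul_eq_zero.1 h1).resolve_left (pow_ne_zero _ (neg_ne_zero.2 one_ne_zero))
      · intro i' _ hi
        refine Finset.sum_eq_zero fun a _ => Finset.sum_eq_zero fun b' _ => ?_
        rw [Pi.single_eq_of_ne (by simp [hi])]; simp
      · exact fun h => absurd (Finset.mem_univ _) h
      · intro j' _ hj
        refine Finset.sum_eq_zero fun i' _ => Finset.sum_eq_zero fun a _ => Finset.sum_eq_zero fun b' _ => ?_
        rw [Pi.single_eq_of_ne (by intro he; exact hj (Sigma.mk.inj_iff.1 he).1)]; simp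
      · exact fun h => absurd (Finset.mem_univ _) h
    have h' : Matrix.vecMul (fun a => u ⟨j, i, a⟩) (mGram n δ ν j.1) = 0 := funext fun b => by
      rw [Pi.zero_apply, ← h b]
      simp only [Matrix.vecMul, dotProduct]
      exact Finset.sum_congr rfl fun a _ => mul_comm (u ⟨j, i, a⟩) _
    by_contra hne
    exact mGram_det_ne_zero hn hν j.1 (Matrix.exists_vecMul_eq_zero_iff.1 ⟨_, fun h0 => hne (congrFun h0 a₀), h'⟩)
  skew u v := by
    rw [mForm_apply, mForm_apply, ← Finset.sum_neg_distrib]
    refine Finset.sum_congr rfl fun j _ => ?_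
    obtain ⟨j, hj⟩ := j
    rcases j with - | k
    · simp
    rw [Fin.sum_univ_succ, Fin.sum_univ_castSucc]
    simp only [mShift, LinearMap.coe_mk, AddHom.coe_mk, Fin.val_zero, if_true, zero_mul, mul_zero,
      Finset.sum_const_zero, zero_add, Fin.rev_last, Fin.val_succ, Nat.succ_ne_zero, if_false,
      Fin.rev_castSucc, Fin.rev_succ, Fin.val_castSucc, add_zero, neg_zero, ← Finset.sum_neg_distrib]
    refine Finset.sum_congr rfl fun i _ => Finset.sum_congr rfl fun a _ => Finset.sum_congr rfl fun b _ => ?_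
    have hi := i.isLt
    rw [show k + 1 - 1 - i.val = (k + 1 - 1 - (i.val + 1)) + 1 by omega, pow_succ]
    simp only [Nat.add_sub_cancel]
    rw [show i.rev.castSucc = (⟨i.rev.val, by omega⟩ : Fin (k + 1)) from rfl,
      show i.castSucc = (⟨i.val, by omega⟩ : Fin (k + 1)) from rfl]
    ring
  nil := ⟨S.sup id, LinearMap.ext fun v => funext fun s => by
    have : s.1.1 ≤ S.sup id := Finset.le_sup (f := id) s.1.2
    rw [mShift_pow, dif_neg (by have := s.2.1.isLt; omega)]
    rfl⟩

theorem rnk_mShift (t : ℕ) : rnk (mShift S n F) t = ∑ j : S, (j.1 - t) * n j.1 := by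
  let T := {s : MIdx S n // t ≤ s.2.1.val}
  let ext₀ : (T → F) →ₗ[F] (MIdx S n → F) :=
    { toFun := fun f s => if h : t ≤ s.2.1.val then f ⟨s, h⟩ else 0
      map_add' := fun f g => by ext s; simp only [Pi.add_apply]; split_ifs <;> simp
      map_smul' := fun c f => by ext s; simp only [Pi.smul_apply, RingHom.id_apply]; split_ifs <;> simp }
  have hinj : Function.Injective ext₀ := fun f g h => funext fun s => by
    have := congrFun h s.1
    simpa [ext₀, s.2] using this
  have hrange : LinearMap.range (mShift S n F ^ t) = LinearMap.range ext₀ := by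
    ext v
    constructor
    · rintro ⟨w, rfl⟩
      refine ⟨fun s => (mShift S n F ^ t) w s.1, funext fun s => ?_⟩
      simp only [ext₀, LinearMap.coe_mk, AddHom.coe_mk]
      split_ifs with h
      · rfl
      · rw [mShift_pow, dif_neg h]
    · rintro ⟨f, rfl⟩
      refine ⟨fun s => if h : s.2.1.val + t < s.1.1 then f ⟨⟨s.1, ⟨s.2.1.val + t, h⟩, s.2.2⟩, Nat.le_add_left _ _⟩
        else 0, funext fun s => ?_⟩
      rw [mShift_pow]
      simp only [ext₀, LinearMap.coe_mk, AddHom.coe_mk]
      split_ifs with h h'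
      · congr 3
        exact Prod.ext (Fin.ext (show s.2.1.val - t + t = s.2.1.val by omega)) rfl
      · exact absurd (show s.2.1.val - t + t < s.1.1 by have := s.2.1.isLt; omega) h'
      · rfl
  rw [rnk, hrange, LinearMap.finrank_range_of_inj hinj, Module.finrank_pi, Fintype.card_subtype, Finset.card_filter,
    Fintype.sum_sigma]
  refine Finset.sum_congr rfl fun j _ => ?_
  rw [Fintype.sum_prod_type, Finset.sum_comm]
  have : ∀ N : ℕ, (∑ i : Fin N, if t ≤ i.val then 1 else 0) = N - t := by
    intro N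
    induction N with
    | zero => simp
    | succ N ih =>
      rw [Fin.sum_univ_castSucc]
      simp only [Fin.val_castSucc, Fin.val_last]
      rw [ih]
      split_ifs <;> omega
  simp [this, mul_comm]

theorem blk_mShift (i : ℕ) (hi : 1 ≤ i) : blk (mShift S n F) i = if i ∈ S then n i else 0 := by
  rw [blk, rnk_mShift, rnk_mShift, rnk_mShift, ← Finset.sum_add_distrib, Finset.mul_sum]
  have hterm : ∀ j : S, (j.1 - (i - 1)) * n j.1 + (j.1 - (i + 1)) * n j.1 =
      2 * ((j.1 - i) * n j.1) + if j.1 = i then n j.1 else 0 := fun j => by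
    rw [← add_mul, ← mul_assoc]
    split_ifs with h
    · rw [show j.1 - (i - 1) + (j.1 - (i + 1)) = 2 * (j.1 - i) + 1 by omega, add_mul, one_mul]
    · rw [show j.1 - (i - 1) + (j.1 - (i + 1)) = 2 * (j.1 - i) by omega, add_zero]
  rw [Finset.sum_congr rfl fun j _ => hterm j, Finset.sum_add_distrib, Nat.add_sub_cancel_left]
  rw [Finset.sum_coe_sort S (fun j => if j = i then n j else 0), Finset.sum_ite_eq']

/-- The model tells the sign apart: some top vectors of size `j` with square non-zero discriminant. -/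
def HasSqDisc {V : Type*} [AddCommGroup V] [Module F V] (x : NilPair (-1 : F) V) (j N : ℕ) : Prop :=
  ∃ w : (Fin N → F) →ₗ[F] V, (∀ u, (x.C ^ j) (w u) = 0) ∧
    (Matrix.of fun a b => x.B ((x.C ^ (j - 1)) (w (Pi.single a 1))) (w (Pi.single b 1))).det ≠ 0 ∧
    IsSquare (Matrix.of fun a b => x.B ((x.C ^ (j - 1)) (w (Pi.single a 1))) (w (Pi.single b 1))).det

theorem HasSqDisc.of_iso {V W : Type*} [AddCommGroup V] [Module F V] [AddCommGroup W] [Module F W]
    {x : NilPair (-1 : F) V} {y : NilPair (-1 : F) W} {j N : ℕ} (h : x.Iso y) (hx : HasSqDisc x j N) :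
    HasSqDisc y j N := by
  obtain ⟨φ, hB, hC⟩ := h
  obtain ⟨w, hw, hd, hs⟩ := hx
  have e : ∀ (t : ℕ) u, (y.C ^ t) (φ u) = φ ((x.C ^ t) u) := fun t u => (conj_pow φ hC t u).symm
  refine ⟨φ.toLinearMap ∘ₗ w, fun u => ?_, ?_, ?_⟩
  · show (y.C ^ j) (φ (w u)) = 0
    rw [e, hw, map_zero]
  all_goals simp only [LinearMap.comp_apply, LinearEquiv.coe_toLinearMap, e, hB]
  · exact hd
  · exact hs

theorem hasSqDisc_mPair_iff (hn : ∀ j, Odd j → Even (n j)) (hν : ν ≠ 0) (hνs : ¬ IsSquare ν) {j : ℕ}
    (hj : j ∈ S) (hev : Even j) (hpos : 0 < j) (hnj : 0 < n j) :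
    HasSqDisc (mPair S hn δ hν) j (n j) ↔ j ∉ δ := by
  let J : S := ⟨j, hj⟩
  let z : Fin j := ⟨0, hpos⟩
  have hker : ∀ u : MIdx S n → F, ((mShift S n F) ^ j) u = 0 →
      ∀ s : MIdx S n, s.2.1.val + j < s.1.1 → u s = 0 := by
    intro u hu s hs
    have h := congrFun hu ⟨s.1, ⟨s.2.1.val + j, hs⟩, s.2.2⟩
    rw [mShift_pow, dif_pos (Nat.le_add_left _ _)] at h
    simpa using h
  have hform : ∀ u v : MIdx S n → F, ((mShift S n F) ^ j) u = 0 → ((mShift S n F) ^ j) v = 0 →
      mForm S n δ ν (((mShift S n F) ^ (j - 1)) u) v =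
        ∑ a, ∑ b, mGram n δ ν j a b * (u ⟨J, z, a⟩ * v ⟨J, z, b⟩) := by
    intro u v hu hv
    rw [mForm_apply, Finset.sum_eq_single J, Finset.sum_eq_single (⟨j - 1, by omega⟩ : Fin j)]
    · refine Finset.sum_congr rfl fun a _ => Finset.sum_congr rfl fun b _ => ?_
      rw [mShift_pow, dif_pos le_rfl,
        show (-1 : F) ^ (J.1 - 1 - (⟨j - 1, by omega⟩ : Fin j).val) = 1 by simp [J], one_mul]
      congr 2
      · congr 3
        exact Fin.ext (by simp [z])
      · congr 3
        exact Fin.ext (by simp [z, J, Fin.val_rev]; omega)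
    · intro i _ hi
      refine Finset.sum_eq_zero fun a _ => Finset.sum_eq_zero fun b _ => ?_
      rw [mShift_pow, dif_neg (by
        intro h
        simp only at h
        exact hi (Fin.ext (by simp only; have := i.isLt; omega)))]
      simp
    · exact fun h => absurd (Finset.mem_univ _) h
    · intro j' _ hne
      refine Finset.sum_eq_zero fun i _ => Finset.sum_eq_zero fun a _ => Finset.sum_eq_zero fun b _ => ?_
      rw [mShift_pow]
      split_ifs with h
      · have hne' : j'.1 ≠ j := fun e => hne (Subtype.ext e)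
        simp only at h
        have := i.isLt
        rcases lt_or_ge (i.val - (j - 1) + j) j'.1 with h1 | h1
        · rw [hker u hu ⟨j', ⟨i.val - (j - 1), by omega⟩, a⟩ h1]; simp
        · rw [hker v hv ⟨j', i.rev, b⟩ (show i.rev.val + j < j'.1 by rw [Fin.val_rev]; omega)]; simp
      · simp
    · exact fun h => absurd (Finset.mem_univ _) h
  have hdetG : IsSquare (mGram n δ ν j).det ↔ j ∉ δ := by
    rw [mGram, if_pos hev, Matrix.det_diagonal, Finset.prod_eq_single (⟨0, hnj⟩ : Fin (n j))]
    · by_cases hd : j ∈ δ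
      · simp [hd, hνs]
      · simp [hd]
    · intro a _ ha
      rw [if_neg fun h => ha (Fin.ext h.1)]
    · exact fun h => absurd (Finset.mem_univ _) h
  constructor
  · rintro ⟨w, hw, hd, hs⟩
    let T : Matrix (Fin (n j)) (Fin (n j)) F := Matrix.of fun a b => w (Pi.single b 1) ⟨J, z, a⟩
    have e : (Matrix.of fun a b => (mPair S hn δ hν).B (((mPair S hn δ hν).C ^ (j - 1)) (w (Pi.single a 1)))
        (w (Pi.single b 1))) = Tᵀ * mGram n δ ν j * T := by
      ext a b
      show mForm S n δ ν (((mShift S n F) ^ (j - 1)) (w (Pi.single a 1))) (w (Pi.single b 1)) = _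
      rw [hform _ _ (hw _) (hw _), Matrix.mul_apply, Finset.sum_comm]
      refine Finset.sum_congr rfl fun c _ => ?_
      rw [Matrix.mul_apply, Finset.sum_mul]
      refine Finset.sum_congr rfl fun c' _ => ?_
      simp only [T, Matrix.transpose_apply, Matrix.of_apply]
      ring
    rw [e, Matrix.det_mul, Matrix.det_mul, Matrix.det_transpose] at hd hs
    obtain ⟨r, hr⟩ := hs
    have hT : T.det ≠ 0 := right_ne_zero_of_mul hd
    exact hdetG.1 ⟨r / T.det, by field_simp; linear_combination hr⟩
  · intro hd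
    let w : (Fin (n j) → F) →ₗ[F] (MIdx S n → F) :=
      { toFun := fun f s => if h : s.1.1 = j ∧ s.2.1.val = 0 then f (h.1 ▸ s.2.2) else 0
        map_add' := fun f g => by ext s; simp only [Pi.add_apply]; split_ifs <;> simp
        map_smul' := fun c f => by ext s; simp only [Pi.smul_apply, RingHom.id_apply]; split_ifs <;> simp }
    have hw : ∀ u, ((mShift S n F) ^ j) (w u) = 0 := fun u => funext fun s => by
      rw [mShift_pow]
      split_ifs with h
      · simp only [w, LinearMap.coe_mk, AddHom.coe_mk]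
        rw [dif_neg]
        · rfl
        · rintro ⟨h1, h2⟩
          have := s.2.1.isLt
          omega
      · rfl
    have hwz : ∀ u a, w u ⟨J, z, a⟩ = u a := fun u a => by simp [w, J, z]
    have e : (Matrix.of fun a b => (mPair S hn δ hν).B (((mPair S hn δ hν).C ^ (j - 1)) (w (Pi.single a 1)))
        (w (Pi.single b 1))) = mGram n δ ν j := by
      ext a b
      show mForm S n δ ν (((mShift S n F) ^ (j - 1)) (w (Pi.single a 1))) (w (Pi.single b 1)) = _
      rw [hform _ _ (hw _) (hw _)]
      simp [hwz, Pi.single_apply]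
    exact ⟨w, hw, by rw [e]; exact mGram_det_ne_zero hn hν j, by rw [e]; exact hdetG.2 hd⟩

end CfsgLib.Char.SpClass
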