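import Mathlib
import Cfsg.Agent.Lib.Char.SpClass.Main
import Cfsg.Agent.Lib.Char.SpClass.Model
import Cfsg.Agent.Lib.GLClass.JordanType

/-!
# Elements of order dividing the characteristic in symplectic groups

In odd characteristic `p` the classes of symplectic matrices with `g^p = 1` correspond to the partitions of `2m`
with parts at most `p` and odd parts of even multiplicity, with one sign for each distinct even part.
-/

set_option autoImplicit false

open scoped Classical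

namespace CfsgLib.Char.SpClass

open Module Polynomial Matrix CfsgLib.IsometryConj CfsgLib.GLClass CfsgLib.Sp

variable {F : Type*} [Field F] [Fintype F] {m : ℕ} {p : ℕ}

local notation "Mat" => Matrix (Fin m ⊕ Fin m) (Fin m ⊕ Fin m) F
local notation "Vec" => (Fin m ⊕ Fin m → F)
local notation "Jst" => Adjoint.st (sympAdjoint m F)

theorem eid_one_eq_one {A : Matrix (Fin m ⊕ Fin m) (Fin m ⊕ Fin m) F} (h : IsNilpotent (A - 1)) :
    eid (1 : F) A = 1 := by
  obtain ⟨N, hN⟩ := h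
  have hz : (A - 1) ^ bigExp m F = 0 := by
    calc (A - 1) ^ bigExp m F = ((A - 1) ^ bigExp m F) ^ (N + 1) :=
          (IsIdempotentElem.pow_succ_eq N (show IsIdempotentElem ((A - 1) ^ bigExp m F) from pow_bigExp_idem (A - 1))).symm
      _ = 0 := by
        rw [← pow_mul]
        exact pow_eq_zero_of_le (le_trans (Nat.le_succ N) (Nat.le_mul_of_pos_left _ bigExp_pos)) hN
  rw [eid, one_smul, hz, sub_zero]

theorem eid_neg_one_eq_zero (h2 : (2 : F) ≠ 0) {A : Matrix (Fin m ⊕ Fin m) (Fin m ⊕ Fin m) F}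
    (h : IsNilpotent (A - 1)) : eid (-1 : F) A = 0 := by
  have h0 := eid_mul_eid_neg h2 one_ne_zero A
  rwa [eid_one_eq_one h, one_mul] at h0

theorem sub_one_pow_eq (hp : p.Prime) [CharP F p] (A : Mat) : (A - 1) ^ p = A ^ p - 1 := by
  rcases Nat.eq_zero_or_pos m with rfl | hm
  · exact Subsingleton.elim _ _
  haveI : Nonempty (Fin m) := ⟨⟨0, hm⟩⟩
  haveI : Fact p.Prime := ⟨hp⟩
  rw [sub_pow_char_of_commute p (Commute.one_right A), one_pow]

theorem two_ne_zero_of_charP (hp : p.Prime) [CharP F p] (hp2 : p ≠ 2) : (2 : F) ≠ 0 := fun h => by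
  have h' : ((2 : ℕ) : F) = 0 := by exact_mod_cast h
  exact hp2 ((Nat.prime_dvd_prime_iff_eq hp Nat.prime_two).1 ((CharP.cast_eq_zero_iff F p 2).1 h'))

/-- The admissible partitions. -/
noncomputable def spTypes (p m : ℕ) : Finset (Nat.Partition (2 * m)) :=
  Finset.univ.filter fun μ => (∀ a ∈ μ.parts, a ≤ p) ∧ ∀ j : ℕ, Odd j → Even (μ.parts.count j)

/-- The data of a class: a type and a set of even parts. -/
noncomputable def spData (p m : ℕ) : Finset (Σ _ : Nat.Partition (2 * m), Finset ℕ) :=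
  (spTypes p m).sigma fun μ => (μ.parts.toFinset.filter fun j => Even j).powerset

theorem card_spData (p m : ℕ) :
    (spData p m).card = ∑ μ ∈ spTypes p m, 2 ^ (μ.parts.toFinset.filter fun j => Even j).card := by
  simp [spData, Finset.card_sigma]

theorem type_of_pow_eq_one (hp : p.Prime) [CharP F p] (hp2 : p ≠ 2) (x : ↥(Matrix.symplecticGroup (Fin m) F))
    (hx : x ^ p = 1) : ∃ μ : Nat.Partition (2 * m), μ ∈ spTypes p m ∧
      (∀ j, 1 ≤ j → μ.parts.count j = blk (eC (1 : F) (x : Mat)) j) ∧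
      ∃ ν : Nat.Partition (m + m), HasType
        ((toFin m F x : GL (Fin (m + m)) F) : Matrix (Fin (m + m)) (Fin (m + m)) F) ν ∧ ν.parts = μ.parts := by
  have h2 := two_ne_zero_of_charP (F := F) hp hp2
  set y := toFin m F x with hy
  set A := ((y : GL (Fin (m + m)) F) : Matrix (Fin (m + m)) (Fin (m + m)) F) with hA
  have hxp : ((x : Mat) - 1) ^ p = 0 := by
    rw [sub_one_pow_eq hp, ← SubmonoidClass.coe_pow, hx, OneMemClass.coe_one, sub_self]
  have hAp : (A - 1) ^ p = 0 := by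
    have e : A - 1 = (Matrix.reindexAlgEquiv F F finSumFinEquiv) ((x : Mat) - 1) := by
      rw [map_sub, map_one, hA, hy, toFin_val, Matrix.reindexAlgEquiv_apply]
    rw [e, ← map_pow, hxp, map_zero]
  obtain ⟨ν, hν⟩ := exists_hasType (A := A) ⟨p, hAp⟩
  have hle := (hν.pow_eq_zero_iff p).1 hAp
  have hcount : ∀ j, 1 ≤ j → ν.parts.count j = blk (eC (1 : F) (x : Mat)) j := by
    intro j hj
    obtain ⟨i, rfl⟩ : ∃ i, j = i + 1 := ⟨j - 1, by omega⟩
    rw [← count_eq_blk h2 (one_mul 1)]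
    obtain ⟨D, hP, hμ⟩ := hν
    rw [hμ, ← count_eq_parts D hP]
    exact D.count_eq (classDecomp y) monic_X_sub_one irreducible_X_sub_one (fun j => rfl) _
  refine ⟨⟨ν.parts, ν.parts_pos, by rw [ν.parts_sum]; omega⟩, ?_, hcount, ν, hν, rfl⟩
  refine Finset.mem_filter.2 ⟨Finset.mem_univ _, hle, fun j hj => ?_⟩
  obtain ⟨c, rfl⟩ := hj
  show Even (ν.parts.count _)
  rw [hcount _ (by omega)]
  exact even_blk h2 (ePair h2 (one_mul 1) ((sympAdjoint_mem_iff (x : Mat)).1 x.2) 1 (Adjoint.st_one _) isUnit_one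
    (Commute.one_left _)) _ (by rw [pow_mul]; simp)

theorem card_pow_classes_le (hp : p.Prime) [CharP F p] (hp2 : p ≠ 2) :
    Nat.card {C : ConjClasses ↥(Matrix.symplecticGroup (Fin m) F) // ∃ g, ConjClasses.mk g = C ∧ g ^ p = 1} ≤
      (spData p m).card := by
  have h2 := two_ne_zero_of_charP (F := F) hp hp2
  obtain ⟨cp, hcp, hcp'⟩ := exists_corner_code (m := m) h2 (one_mul (1 : F))
  choose rep hrep hpow using
    fun C : {C : ConjClasses ↥(Matrix.symplecticGroup (Fin m) F) // ∃ g, ConjClasses.mk g = C ∧ g ^ p = 1} => C.2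
  choose μ hμ hblk ν hν hνμ using fun C => type_of_pow_eq_one hp hp2 (rep C) (hpow C)
  let sA : ↥(Matrix.symplecticGroup (Fin m) F) → {A : Mat // Jst A * A = 1} :=
    fun x => ⟨(x : Mat), (sympAdjoint_mem_iff _).1 x.2⟩
  have hmem : ∀ C, (⟨μ C, cp (sA (rep C))⟩ : Σ _ : Nat.Partition (2 * m), Finset ℕ) ∈ spData p m := fun C => by
    refine Finset.mem_sigma.2 ⟨hμ C, Finset.mem_powerset.2 fun j hj => ?_⟩
    obtain ⟨-, h1, h3, h4⟩ := Finset.mem_filter.1 (hcp _ hj)
    refine Finset.mem_filter.2 ⟨Multiset.mem_toFinset.2 (Multiset.count_pos.1 ?_), h3⟩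
    rw [hblk C j h1]
    exact h4
  refine (Nat.card_le_card_of_injective (fun C => (⟨_, hmem C⟩ : ↥(spData p m))) fun C D h => ?_).trans
    (Nat.card_eq_finsetCard _).le
  simp only [Subtype.mk.injEq, Sigma.mk.injEq, heq_eq_eq] at h
  obtain ⟨hμe, hce⟩ := h
  have hνe : ν C = ν D := Nat.Partition.ext (by rw [hνμ, hνμ, hμe])
  obtain ⟨u, hu⟩ := ((hν C).isConj_iff (hν D)).2 hνe
  let P : (Mat)ˣ := Units.map (Matrix.reindexAlgEquiv F F finSumFinEquiv.symm).toMonoidHom u
  have hrr : ∀ z : ↥(Matrix.symplecticGroup (Fin m) F), (Matrix.reindexAlgEquiv F F finSumFinEquiv.symm)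
      ((toFin m F z : GL (Fin (m + m)) F) : Matrix (Fin (m + m)) (Fin (m + m)) F) = (z : Mat) := fun z => by
    rw [toFin_val]; ext i j; simp
  have hPe : (P : Mat) * (rep C : Mat) = (rep D : Mat) * P := by
    have h := congrArg (Matrix.reindexAlgEquiv F F finSumFinEquiv.symm) hu.eq
    simp only [map_mul, hrr] at h
    exact h
  have hnil : IsNilpotent ((rep C : Mat) - 1) := ⟨p, by
    rw [sub_one_pow_eq hp, ← SubmonoidClass.coe_pow, hpow C, OneMemClass.coe_one, sub_self]⟩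
  refine Subtype.ext ?_
  rw [← hrep C, ← hrep D]
  refine ConjClasses.mk_eq_mk_iff_isConj.2 (isConj_of_corners h2 _ _ P hPe fun l hl' => ?_)
  rcases mul_self_eq_one_iff.1 hl' with rfl | rfl
  · exact hcp' (sA (rep C)) (sA (rep D)) P hPe hce
  · refine ⟨0, ?_⟩
    simp [eid_neg_one_eq_zero h2 hnil, Adjoint.st_zero]

/-- A realisation of the model in the symplectic group. -/
theorem exists_model (hp : p.Prime) [CharP F p] (hp2 : p ≠ 2) {ν : F} (hν : ν ≠ 0) (S : Finset ℕ) (n : ℕ → ℕ)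
    (hn : ∀ j, Odd j → Even (n j)) (hS : ∀ j ∈ S, j ≤ p) (hdim : ∑ j ∈ S, j * n j = 2 * m) (δ : Finset ℕ) :
    ∃ x : ↥(Matrix.symplecticGroup (Fin m) F), x ^ p = 1 ∧
      (mPair S hn δ hν).Iso (ePair (two_ne_zero_of_charP hp hp2) (one_mul (1 : F))
        ((sympAdjoint_mem_iff (x : Mat)).1 x.2) 1 (Adjoint.st_one _) isUnit_one (Commute.one_left _)) := by
  have h2 := two_ne_zero_of_charP (F := F) hp hp2
  have hcard : Fintype.card (MIdx S n) = Fintype.card (Fin m ⊕ Fin m) := by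
    simp only [Fintype.card_sigma, Fintype.card_prod, Fintype.card_fin, Fintype.card_sum]
    rw [Finset.sum_coe_sort S (fun j => j * n j), hdim, two_mul]
  set x₀ := mPair S hn δ hν with hx₀
  let e : Vec ≃ₗ[F] (MIdx S n → F) := LinearEquiv.funCongrLeft F F (Fintype.equivOfCardEq hcard)
  let B' : LinearMap.BilinForm F Vec := x₀.B.comp e.toLinearMap e.toLinearMap
  have halt : B'.IsAlt := fun u => by
    have h := x₀.flip (e u) (e u)
    have h' : (2 : F) * x₀.B (e u) (e u) = 0 := by linear_combination h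
    exact (mul_eq_zero.1 h').resolve_left h2
  have hnd : B'.Nondegenerate :=
    (LinearMap.IsRefl.nondegenerate_iff_separatingLeft (B := B') halt.isRefl).2 fun u hu => e.injective (by
      rw [map_zero]
      refine x₀.sep _ fun v => ?_
      have := hu (e.symm v)
      simpa [B'] using this)
  obtain ⟨φ, hφ⟩ := exists_alt_iso (CfsgLib.Classical.SympCount.sB m F) B'
    CfsgLib.Classical.SympCount.sB_isAlt halt CfsgLib.Classical.SympCount.sB_nondegenerate hnd
  let ψ : (MIdx S n → F) ≃ₗ[F] Vec := e.symm.trans φ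
  have hψ : ∀ u v, sf (ψ u) (ψ v) = x₀.B u v := fun u v => by
    have := hφ (e.symm u) (e.symm v)
    simpa [ψ, B', CfsgLib.Classical.SympCount.sB_apply] using this
  let f : Module.End F Vec := (ψ.toLinearMap ∘ₗ x₀.C) ∘ₗ ψ.symm.toLinearMap
  let C : Mat := LinearMap.toMatrix' f
  have hC : ∀ u, C *ᵥ ψ u = ψ (x₀.C u) := fun u => by
    simp [C, f, LinearMap.toMatrix'_mulVec]
  have hstC : Jst C = -C := by
    refine Matrix.ext_iff_mulVec.2 fun v => ?_
    obtain ⟨v, rfl⟩ := ψ.surjective v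
    refine sub_eq_zero.1 (eq_zero_of_sf fun w => ?_)
    obtain ⟨w, rfl⟩ := ψ.surjective w
    have h1 : sf (C *ᵥ ψ w) (ψ v) = sf (ψ w) (Jst C *ᵥ ψ v) := sf_adjoint _ _ _
    rw [hC, hψ, x₀.skew, ← hψ, ← hC] at h1
    rw [sf_swap, sub_eq_add_neg, ← Matrix.neg_mulVec, neg_neg, sf_add_right, ← h1]
    ring
  have hCp : C ^ p = 0 := by
    have key : ∀ (k : ℕ) u, C ^ k *ᵥ ψ u = ψ ((x₀.C ^ k) u) := by
      intro k
      induction k with
      | zero => intro u; simp
      | succ k ih => intro u; rw [pow_succ, pow_succ, ← Matrix.mulVec_mulVec, hC, ih, Module.End.mul_apply]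
    refine Matrix.ext_iff_mulVec.2 fun v => ?_
    obtain ⟨v, rfl⟩ := ψ.surjective v
    have hz : (x₀.C ^ p) v = 0 := funext fun s => by
      show ((mShift S n F) ^ p) v s = 0
      rw [mShift_pow, dif_neg]
      have := hS s.1.1 s.1.2
      have := s.2.1.isLt
      omega
    rw [key, hz, map_zero, Matrix.zero_mulVec]
  set w : Mat := ∑ i ∈ Finset.range p, C ^ i with hw
  have hw1 : (1 - C) * w = 1 := by rw [hw, mul_neg_geom_sum, hCp, sub_zero]
  have hCw : Commute C w := Commute.sum_right _ _ _ fun i _ => (Commute.refl C).pow_right i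
  have hst1 : Jst (1 - C) = 1 + C := by rw [Adjoint.st_sub, Adjoint.st_one, hstC, sub_neg_eq_add]
  have hwst : Jst w * (1 + C) = 1 := by
    have h := congrArg Jst hw1
    rw [Adjoint.st_mul, hst1, Adjoint.st_one] at h
    exact h
  set A : Mat := (1 + C) * w with hA
  have hst2 : Jst (1 + C) = 1 - C := by
    rw [Adjoint.st_add, Adjoint.st_one, hstC]; abel
  have hAA : Jst A * A = 1 := by
    calc Jst A * A = Jst w * ((1 - C) * (1 + C)) * w := by
          rw [hA, Adjoint.st_mul, hst2]; simp only [mul_assoc]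
      _ = (Jst w * (1 + C)) * ((1 - C) * w) := by
          rw [show (1 - C) * (1 + C) = (1 + C) * (1 - C) by noncomm_ring]; simp only [mul_assoc]
      _ = 1 := by rw [hwst, hw1, one_mul]
  have hsubA : A - 1 = (C + C) * w := by
    calc A - 1 = (1 + C) * w - (1 - C) * w := by rw [hw1]
      _ = _ := by rw [← sub_mul]; congr 1; abel
  have haddA : A + 1 = w + w := by
    calc A + 1 = (1 + C) * w + (1 - C) * w := by rw [hw1]
      _ = _ := by noncomm_ring
  have hnilA : (A - 1) ^ p = 0 := by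
    have hcc : C + C = (2 : F) • C := (two_smul F C).symm
    rw [hsubA, hcc, smul_mul_assoc, _root_.smul_pow, hCw.mul_pow, hCp, zero_mul, smul_zero]
  have hpow : A ^ p = 1 := sub_eq_zero.1 (by rw [← sub_one_pow_eq hp, hnilA])
  have he : eid (1 : F) A = 1 := eid_one_eq_one ⟨p, hnilA⟩
  have hcm : cm (1 : F) A = C := by
    have h1 : A - (1 : F) • (1 : Mat) = C * (A + (1 : F) • 1) := by
      rw [one_smul, hsubA, haddA, add_mul, mul_add]
    rw [cm, h1, mul_assoc C, mul_assoc C, add_mul_pow_eid h2 one_ne_zero A, he, mul_one]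
  refine ⟨⟨A, (sympAdjoint_mem_iff A).2 hAA⟩, Subtype.ext (by rw [SubmonoidClass.coe_pow]; exact hpow), ?_⟩
  have hm : ∀ u, ψ u ∈ eSpace (1 : F) A := fun u => ⟨ψ u, by
    show eid (1 : F) A *ᵥ ψ u = ψ u
    rw [he, Matrix.one_mulVec]⟩
  let Φ₀ : (MIdx S n → F) →ₗ[F] eSpace (1 : F) A := ψ.toLinearMap.codRestrict _ hm
  let Φ : (MIdx S n → F) ≃ₗ[F] eSpace (1 : F) A := LinearEquiv.ofBijective Φ₀
    ⟨fun a b h => ψ.injective (congrArg Subtype.val h), fun u => ⟨ψ.symm u, Subtype.ext (ψ.apply_symm_apply _)⟩⟩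
  refine ⟨Φ, fun u v => ?_, fun u => Subtype.ext ?_⟩
  · show sf (ψ u) ((1 : Mat) *ᵥ ψ v) = x₀.B u v
    rw [Matrix.one_mulVec, hψ]
  · show ψ (x₀.C u) = cm (1 : F) A *ᵥ ψ u
    rw [hcm, hC]

theorem le_card_pow_classes (hp : p.Prime) [CharP F p] (hp2 : p ≠ 2) :
    (spData p m).card ≤
      Nat.card {C : ConjClasses ↥(Matrix.symplecticGroup (Fin m) F) // ∃ g, ConjClasses.mk g = C ∧ g ^ p = 1} := by
  have h2 := two_ne_zero_of_charP (F := F) hp hp2
  obtain ⟨ν, hνs⟩ := FiniteField.exists_nonsquare (F := F) (by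
    rw [ringChar.eq F p]; exact hp2)
  have hν : ν ≠ 0 := fun h => hνs (h ▸ IsSquare.zero)
  have hT : ∀ z : ↥(spData p m), (∀ a ∈ z.1.1.parts, a ≤ p) ∧ (∀ j : ℕ, Odd j → Even (z.1.1.parts.count j)) ∧
      z.1.2 ⊆ z.1.1.parts.toFinset.filter fun j => Even j := fun z => by
    obtain ⟨h1, h2⟩ := Finset.mem_sigma.1 z.2
    obtain ⟨-, h3, h4⟩ := Finset.mem_filter.1 h1
    exact ⟨h3, h4, Finset.mem_powerset.1 h2⟩
  choose x hxp hxiso using fun z : ↥(spData p m) =>
    exists_model (F := F) (m := m) hp hp2 hν z.1.1.parts.toFinset (fun j => z.1.1.parts.count j) (hT z).2.1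
      (fun j hj => (hT z).1 j (Multiset.mem_toFinset.1 hj))
      (by
        conv_rhs => rw [← z.1.1.parts_sum, Finset.sum_multiset_count]
        simp only [smul_eq_mul, mul_comm])
      z.1.2
  refine le_trans (Nat.card_eq_finsetCard _).ge (Nat.card_le_card_of_injective
    (fun z => (⟨ConjClasses.mk (x z), x z, rfl, hxp z⟩ :
      {C : ConjClasses ↥(Matrix.symplecticGroup (Fin m) F) // ∃ g, ConjClasses.mk g = C ∧ g ^ p = 1})) ?_)
  intro z z' hzz
  obtain ⟨c, hc⟩ := isConj_iff.1 (ConjClasses.mk_eq_mk_iff_isConj.1 (congrArg Subtype.val hzz))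
  have hA := (sympAdjoint_mem_iff ((x z) : Mat)).1 (x z).2
  have hB := (sympAdjoint_mem_iff ((x z') : Mat)).1 (x z').2
  have hP : (c : Mat) * (x z : Mat) = (x z' : Mat) * c := congrArg Subtype.val (mul_inv_eq_iff_eq_mul.1 hc)
  have hS : Jst (c : Mat) * c = 1 := (sympAdjoint_mem_iff _).1 c.2
  have key : ∀ (S : Mat) (hS₁ : Jst S = S) (hS₂ : IsUnit S) (hS₃ : Commute S (x z : Mat)), S = 1 →
      ePair h2 (one_mul (1 : F)) hA S hS₁ hS₂ hS₃ =
        ePair h2 (one_mul (1 : F)) hA 1 (Adjoint.st_one _) isUnit_one (Commute.one_left _) := by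
    intro S _ _ _ h; subst h; rfl
  have hcu : IsUnit (c : Mat) := (Group.isUnit c).map (Matrix.symplecticGroup (Fin m) F).subtype
  have hiso := ePair_conj h2 (one_mul (1 : F)) hA hcu hB hP
    (by rw [hS, Adjoint.st_one]) (by rw [hS]; exact isUnit_one) (by rw [hS]; exact Commute.one_left _)
  rw [key _ _ _ _ hS] at hiso
  have h := ((hxiso z).trans hiso).trans (hxiso z').symm
  obtain ⟨Φ, -, hΦ⟩ := id h
  have hcnt : ∀ j, z.1.1.parts.count j = z'.1.1.parts.count j := by
    intro j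
    rcases Nat.eq_zero_or_pos j with rfl | hj
    · rw [Multiset.count_eq_zero.2 fun h0 => absurd (z.1.1.parts_pos h0) (lt_irrefl _),
        Multiset.count_eq_zero.2 fun h0 => absurd (z'.1.1.parts_pos h0) (lt_irrefl _)]
    · have e : blk (mShift z.1.1.parts.toFinset (fun j => z.1.1.parts.count j) F) j =
          blk (mShift z'.1.1.parts.toFinset (fun j => z'.1.1.parts.count j) F) j := by
        have hr : ∀ i, rnk (mShift z.1.1.parts.toFinset (fun j => z.1.1.parts.count j) F) i =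
            rnk (mShift z'.1.1.parts.toFinset (fun j => z'.1.1.parts.count j) F) i := fun i => rnk_conj Φ hΦ i
        simp only [blk, hr]
      rw [blk_mShift j hj, blk_mShift j hj] at e
      have e' : ∀ s : Multiset ℕ, (if j ∈ s.toFinset then s.count j else 0) = s.count j := fun s => by
        split_ifs with h
        · rfl
        · exact (Multiset.count_eq_zero.2 fun h' => h (Multiset.mem_toFinset.2 h')).symm
      rwa [e', e'] at e
  obtain ⟨⟨μ, δ⟩, hz⟩ := z
  obtain ⟨⟨μ', δ'⟩, hz'⟩ := z'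
  obtain rfl : μ = μ' := Nat.Partition.ext (Multiset.ext.2 hcnt)
  refine Subtype.ext (Sigma.ext rfl (heq_of_eq (Finset.ext fun j => ?_)))
  have hsub := (hT ⟨⟨μ, δ⟩, hz⟩).2.2
  have hsub' := (hT ⟨⟨μ, δ'⟩, hz'⟩).2.2
  by_cases hj : j ∈ μ.parts.toFinset.filter fun j => Even j
  · obtain ⟨hjp, hev⟩ := Finset.mem_filter.1 hj
    have hpos : 0 < j := μ.parts_pos (Multiset.mem_toFinset.1 hjp)
    have hnj : 0 < μ.parts.count j := Multiset.count_pos.2 (Multiset.mem_toFinset.1 hjp)
    have i1 := hasSqDisc_mPair_iff (δ := δ) (hT ⟨⟨μ, δ⟩, hz⟩).2.1 hν hνs hjp hev hpos hnj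
    have i2 := hasSqDisc_mPair_iff (δ := δ') (hT ⟨⟨μ, δ'⟩, hz'⟩).2.1 hν hνs hjp hev hpos hnj
    have i3 : HasSqDisc (mPair μ.parts.toFinset (hT ⟨⟨μ, δ⟩, hz⟩).2.1 δ hν) j (μ.parts.count j) ↔
        HasSqDisc (mPair μ.parts.toFinset (hT ⟨⟨μ, δ'⟩, hz'⟩).2.1 δ' hν) j (μ.parts.count j) :=
      ⟨HasSqDisc.of_iso h, HasSqDisc.of_iso h.symm⟩
    exact not_iff_not.1 (i1.symm.trans (i3.trans i2))
  · exact ⟨fun h' => absurd (hsub h') hj, fun h' => absurd (hsub' h') hj⟩

/-- The number of classes of elements with `g ^ p = 1`. -/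
theorem card_pow_classes (hp : p.Prime) [CharP F p] (hp2 : p ≠ 2) :
    Nat.card {C : ConjClasses ↥(Matrix.symplecticGroup (Fin m) F) // ∃ g, ConjClasses.mk g = C ∧ g ^ p = 1} =
      ∑ μ ∈ spTypes p m, 2 ^ (μ.parts.toFinset.filter fun j => Even j).card := by
  rw [← card_spData]
  exact le_antisymm (card_pow_classes_le hp hp2) (le_card_pow_classes hp hp2)

/-- The number of classes of elements of order `p`. -/
theorem card_order_classes (hp : p.Prime) [CharP F p] (hp2 : p ≠ 2) :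
    Nat.card {C : ConjClasses ↥(Matrix.symplecticGroup (Fin m) F) // ∃ g, ConjClasses.mk g = C ∧ orderOf g = p} =
      (∑ μ ∈ spTypes p m, 2 ^ (μ.parts.toFinset.filter fun j => Even j).card) - 1 := by
  haveI : Fact p.Prime := ⟨hp⟩
  haveI : Fintype (ConjClasses ↥(Matrix.symplecticGroup (Fin m) F)) := Fintype.ofFinite _
  rw [← card_pow_classes (F := F) hp hp2, Nat.card_eq_fintype_card, Nat.card_eq_fintype_card, Fintype.card_subtype,
    Fintype.card_subtype, ← Finset.card_erase_of_mem (a := ConjClasses.mk 1)]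
  · congr 1
    ext C
    simp only [Finset.mem_filter, Finset.mem_univ, true_and, Finset.mem_erase, orderOf_eq_prime_iff]
    constructor
    · rintro ⟨g, rfl, hg, hg1⟩
      refine ⟨fun h => hg1 ?_, g, rfl, hg⟩
      exact isConj_one_left.1 (ConjClasses.mk_eq_mk_iff_isConj.1 h)
    · rintro ⟨hne, g, rfl, hg⟩
      exact ⟨g, rfl, hg, fun h => hne (by rw [h])⟩
  · exact Finset.mem_filter.2 ⟨Finset.mem_univ _, 1, rfl, one_pow p⟩

end CfsgLib.Char.SpClass
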